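import Cfsg.Agent.Lib.Signalizer.Basic
import Cfsg.Agent.Lib.Signalizer.Involutions
import Cfsg.Agent.Lib.Bender.GroupLemmas

/-!
Owner: helper5. The geometry of S3310: the points are the Sylow 2-subgroups, a line is the set of points containing
the intersection of two of them, and every point has an elementary group of central elements fixing no other point.

* `Pencils`: the hypotheses.
* `R S D`, `IsLine S D`, `IsCentral D w`, and first consequences: two points lie on one line only, the fixed points of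
  a nontrivial element of `D` form the line, and an involution of a line commutes with an involution at a point
  outside it that moves the point along a line.
-/

set_option autoImplicit false
set_option linter.style.haveILetI false
set_option linter.unusedSectionVars false

namespace CfsgLib.RankOneInter

open Subgroup

variable {K : Type*} [Group K]

theorem mem_smul_iff {g x : K} {S : Sylow 2 K} :
    x ∈ ((g • S : Sylow 2 K) : Subgroup K) ↔ g⁻¹ * x * g ∈ (S : Subgroup K) := by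
  rw [Sylow.coe_subgroup_smul, Subgroup.mem_pointwise_smul_iff_inv_smul_mem]
  simp [MulAut.smul_def, mul_assoc]

theorem conj_mem_smul {g x : K} {S : Sylow 2 K} (hx : x ∈ (S : Subgroup K)) :
    g * x * g⁻¹ ∈ ((g • S : Sylow 2 K) : Subgroup K) := by
  rw [mem_smul_iff]; simpa [mul_assoc] using hx

theorem smul_sylow_of_mem {x : K} {S : Sylow 2 K} (hx : x ∈ (S : Subgroup K)) : x • S = S :=
  Sylow.smul_eq_iff_mem_normalizer.2 (le_normalizer hx)

variable [Finite K]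

/-- A 2-element fixing a Sylow 2-subgroup lies in it. -/
theorem mem_of_smul_eq {x : K} {S T : Sylow 2 K} (hx : x ∈ (S : Subgroup K)) (h : x • T = T) :
    x ∈ (T : Subgroup K) := by
  haveI := Fact.mk Nat.prime_two
  have hp : IsPGroup 2 (zpowers x) := S.isPGroup'.to_le (zpowers_le.2 hx)
  have h' : x ∈ zpowers x ⊓ normalizer (T : Set K) := ⟨mem_zpowers x, Sylow.smul_eq_iff_mem_normalizer.1 h⟩
  rw [hp.inf_normalizer_sylow T] at h'
  exact h'.2

/-- The part of `S` fixing the line of `D`. -/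
def R (S : Sylow 2 K) (D : Subgroup K) : Subgroup K := (S : Subgroup K) ⊓ normalizer (D : Set K)

/-- `D` is the kernel of a line through `S`. -/
def IsLine (S : Sylow 2 K) (D : Subgroup K) : Prop :=
  D ≠ ⊥ ∧ ∃ T : Sylow 2 K, T ≠ S ∧ D = (S : Subgroup K) ⊓ (T : Subgroup K)

/-- An involution in the centre of `D`. -/
def IsCentral (D : Subgroup K) (w : K) : Prop := w ∈ D ∧ orderOf w = 2 ∧ ∀ d ∈ D, d * w = w * d

/-- The local facts on a line, seen from two of its points. -/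
structure LineFacts (Z : Sylow 2 K → Subgroup K) (q : ℕ) (S T : Sylow 2 K) (D : Subgroup K) : Prop where
  sq_mem : ∀ x ∈ R S D, x * x ∈ D → ∃ j ∈ Z S, ∃ d ∈ D, x = j * d
  cent : ∀ d ∈ D, (∀ e ∈ D, e * d = d * e) → ∀ x ∈ R S D, x * d = d * x
  trans : ∀ U : Sylow 2 K, D ≤ U → U ≠ S → ∃ x ∈ R S D, x • T = U
  gen : ∀ d ∈ D, ∀ e ∈ D, d * e ≠ e * d → D = closure {c | c ∈ D ∧ c * c = 1}
  abel : (∀ d ∈ D, ∀ e ∈ D, d * e = e * d) → IsCyclic D ∨ Nat.card D = 4
  comm : ∀ x ∈ R S D, ∀ y ∈ R S D, x * y * x⁻¹ * y⁻¹ ∈ Z S ⊔ D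
  big : (∀ x ∈ R S D, ∀ y ∈ R S D, x * y * x⁻¹ * y⁻¹ ∈ D) → Nat.card (R S D) = Nat.card D * q
  torus : ∃ g : K, Odd (orderOf g) ∧ g • S = S ∧ g • T = T ∧ (∀ d ∈ D, g * d = d * g) ∧
    (∀ z ∈ Z S, ∀ z' ∈ Z S, z ≠ 1 → z' ≠ 1 → ∃ i : ℕ, g ^ i * z * (g ^ i)⁻¹ = z') ∧
    (∀ (i : ℕ) (z : K), z ∈ Z S ∨ z ∈ Z T → z ≠ 1 → g ^ i * z = z * g ^ i →
      ∀ z' ∈ Z S, g ^ i * z' = z' * g ^ i) ∧
    (∀ (i : ℕ) (U : Sylow 2 K), D ≤ U → U ≠ S → U ≠ T → g ^ i • U = U → ∀ z' ∈ Z S, g ^ i * z' = z' * g ^ i)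

/-- The hypotheses. -/
structure Pencils (K : Type*) [Group K] [Finite K] where
  q : ℕ
  Z : Sylow 2 K → Subgroup K
  q_pow : ∃ n, 2 ≤ n ∧ q = 2 ^ n
  card_Z : ∀ S, Nat.card (Z S) = q
  Z_le : ∀ S, Z S ≤ (S : Subgroup K)
  Z_central : ∀ S : Sylow 2 K, ∀ z ∈ Z S, ∀ s ∈ (S : Subgroup K), s * z = z * s
  Z_sq : ∀ S, ∀ z ∈ Z S, z * z = 1
  Z_unique : ∀ (S T : Sylow 2 K), ∀ z ∈ Z S, z ≠ 1 → z ∈ (T : Subgroup K) → T = S
  Z_conj : ∀ (g : K) (S : Sylow 2 K), ∀ z ∈ Z S, g * z * g⁻¹ ∈ Z (g • S)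
  meet : ∀ S T U : Sylow 2 K, S ≠ T → ∀ x ∈ (S : Subgroup K), x ∈ (T : Subgroup K) → x ∈ (U : Subgroup K) →
    x ≠ 1 → (S : Subgroup K) ⊓ (T : Subgroup K) ≤ (U : Subgroup K)
  core : ∀ x : K, (∀ S : Sylow 2 K, x ∈ (S : Subgroup K)) → x = 1
  line : ∀ (S T : Sylow 2 K), T ≠ S → (S : Subgroup K) ⊓ (T : Subgroup K) ≠ ⊥ →
    LineFacts Z q S T ((S : Subgroup K) ⊓ (T : Subgroup K))

namespace Pencils

variable (P : Pencils K) {S T : Sylow 2 K} {D : Subgroup K}

theorem line_le (hD : IsLine S D) : D ≤ (S : Subgroup K) := by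
  obtain ⟨-, T, -, rfl⟩ := hD; exact inf_le_left

theorem le_R (hD : IsLine S D) : D ≤ R S D := le_inf (line_le hD) le_normalizer

theorem R_le : R S D ≤ (S : Subgroup K) := inf_le_left

include P

/-- Two distinct points of a line meet in its kernel. -/
theorem inf_eq (hD : IsLine S D) {U : Sylow 2 K} (hU : D ≤ (U : Subgroup K)) (hUS : U ≠ S) :
    (S : Subgroup K) ⊓ (U : Subgroup K) = D := by
  obtain ⟨h1, T, hTS, rfl⟩ := hD
  refine le_antisymm (le_inf inf_le_left ?_) (le_inf inf_le_left hU)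
  obtain ⟨⟨x, hx⟩, hx'⟩ := ne_bot_iff_exists_ne_one.1 h1
  have hx1 : x ≠ 1 := fun e => hx' (Subtype.ext e)
  exact P.meet S U T hUS.symm x hx.1 (hU hx) hx.2 hx1

theorem isLine_of_le (hD : IsLine S D) (hT : D ≤ (T : Subgroup K)) : IsLine T D := by
  rcases eq_or_ne T S with rfl | hTS
  · exact hD
  · exact ⟨hD.1, S, hTS.symm, by rw [inf_comm, P.inf_eq hD hT hTS]⟩

/-- A nontrivial element of the kernel lies in the points of the line only. -/
theorem le_of_mem (hD : IsLine S D) {x : K} (hx : x ∈ D) (hx1 : x ≠ 1) {U : Sylow 2 K}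
    (hU : x ∈ (U : Subgroup K)) : D ≤ (U : Subgroup K) := by
  obtain ⟨-, T, hTS, rfl⟩ := hD
  exact P.meet S T U hTS.symm x hx.1 hx.2 hU hx1

/-- Two kernels at a point with a common element are equal. -/
theorem eq_of_common (hD : IsLine S D) {E : Subgroup K} (hE : IsLine S E) {x : K} (hxD : x ∈ D) (hxE : x ∈ E)
    (hx1 : x ≠ 1) : D = E := by
  obtain ⟨-, U, hUS, rfl⟩ := hE
  exact (P.inf_eq hD (P.le_of_mem hD hxD hx1 hxE.2) hUS).symm

theorem conj_mem_line (hD : IsLine S D) {g : K} (hS : g • S = S) {d : K} (hd : d ∈ D) (hd1 : d ≠ 1)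
    (hgd : g * d * g⁻¹ ∈ D) : ∀ e ∈ D, g * e * g⁻¹ ∈ D := by
  obtain ⟨hne, T, hTS, rfl⟩ := hD
  intro e he
  have hT : g * d * g⁻¹ ∈ ((g • T : Sylow 2 K) : Subgroup K) := conj_mem_smul hd.2
  have hTS' : g • T ≠ S := fun h => hTS (MulAction.injective g (h.trans hS.symm))
  have := P.inf_eq ⟨hne, T, hTS, rfl⟩ (P.le_of_mem ⟨hne, T, hTS, rfl⟩ hgd (fun h => hd1 (conj_eq_one_iff.1 h)) hT)
    hTS'
  exact this ▸ ⟨hS ▸ conj_mem_smul he.1, conj_mem_smul he.2⟩

theorem mem_R_of_commute (hD : IsLine S D) {d x : K} (hd : d ∈ D) (hd1 : d ≠ 1) (hx : x ∈ (S : Subgroup K))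
    (hc : x * d = d * x) : x ∈ R S D := by
  refine ⟨hx, mem_normalizer_iff.2 fun e => ⟨fun he => ?_, fun he => ?_⟩⟩
  · exact P.conj_mem_line hD (smul_sylow_of_mem hx) hd hd1 (by rwa [hc, mul_inv_cancel_right]) e he
  · have h := P.conj_mem_line hD (g := x⁻¹) (smul_sylow_of_mem (inv_mem hx)) hd hd1
      (by rw [inv_inv, mul_assoc, ← hc, inv_mul_cancel_left]; exact hd) _ he
    simpa [mul_assoc] using h

theorem isLine_cent (hD : IsLine S D) {d : K} (hd : d ∈ D) (hc : ∀ e ∈ D, e * d = d * e) {x : K}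
    (hx : x ∈ R S D) : x * d = d * x := by
  obtain ⟨h1, T, hTS, rfl⟩ := hD
  exact (P.line S T hTS h1).cent d hd hc x hx

/-- Every line has a central involution. -/
theorem exists_central (hD : IsLine S D) : ∃ w, IsCentral D w := by
  haveI := Fact.mk Nat.prime_two
  have hp : IsPGroup 2 D := S.isPGroup'.to_le (line_le hD)
  haveI : Nontrivial D := D.nontrivial_iff_ne_bot.2 hD.1
  haveI : Nontrivial (center D) := hp.center_nontrivial
  obtain ⟨k, hk0, hk⟩ := (hp.to_subgroup (center D)).nontrivial_iff_card.1 ‹_›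
  obtain ⟨w, hw⟩ := exists_prime_orderOf_dvd_card' (G := center D) 2 (hk ▸ dvd_pow_self 2 hk0.ne')
  refine ⟨((w : D) : K), (w : D).2, by rw [Subgroup.orderOf_coe, Subgroup.orderOf_coe, hw], fun d hd => ?_⟩
  exact congrArg Subtype.val (mem_center_iff.1 w.2 ⟨d, hd⟩)

theorem centralizer_eq (hD : IsLine S D) {w : K} (hw : IsCentral D w) {x : K} :
    x ∈ R S D ↔ x ∈ (S : Subgroup K) ∧ x * w = w * x :=
  ⟨fun h => ⟨h.1, P.isLine_cent hD hw.1 hw.2.2 h⟩,
    fun h => P.mem_R_of_commute hD hw.1 (CfsgLib.Signalizer.involution_ne_one hw.2.1) h.1 h.2⟩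

theorem Z_le_R (hD : IsLine S D) : P.Z S ≤ R S D := fun z hz =>
  ⟨P.Z_le S hz, mem_normalizer_iff.2 fun e => by
    constructor
    · intro he; rwa [← P.Z_central S z hz e (line_le hD he), mul_inv_cancel_right]
    · intro he
      have h := P.Z_central S z hz _ (line_le hD he)
      rw [inv_mul_cancel_right] at h
      rwa [show e = z * e * z⁻¹ from (mul_left_cancel (a := z) h.symm).symm]⟩

theorem eq_one_of_Z_two {T : Sylow 2 K} (hTS : T ≠ S) {z : K} (hz : z ∈ P.Z S)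
    (hzT : z ∈ (T : Subgroup K)) : z = 1 :=
  by_contra fun h => hTS (P.Z_unique S T z hz h hzT)

theorem eq_one_of_Z_line (hD : IsLine S D) {z : K} (hz : z ∈ P.Z S) (hzD : z ∈ D) : z = 1 := by
  obtain ⟨-, T, hTS, rfl⟩ := hD
  exact P.eq_one_of_Z_two hTS hz hzD.2

theorem orderOf_Z {z : K} (hz : z ∈ P.Z S) (hz1 : z ≠ 1) : orderOf z = 2 :=
  CfsgLib.Signalizer.orderOf_eq_two_of hz1 (P.Z_sq S z hz)

theorem exists_Z_ne_one (S : Sylow 2 K) : ∃ z ∈ P.Z S, z ≠ 1 := by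
  obtain ⟨n, hn, hq⟩ := P.q_pow
  have h : (1 : ℕ) < Nat.card (P.Z S) := by
    rw [P.card_Z, hq]; exact Nat.one_lt_two_pow (by omega)
  haveI := Finite.one_lt_card_iff_nontrivial.1 h
  obtain ⟨⟨z, hz⟩, h1⟩ := exists_ne (1 : P.Z S)
  exact ⟨z, hz, fun e => h1 (Subtype.ext e)⟩

/-- An involution `w` of a line moves a point outside along a line, whose involution commutes with `w`. -/
theorem exists_link (hD : IsLine S D) {w : K} (hw : IsCentral D w) {b : Sylow 2 K}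
    (hb : ¬ D ≤ (b : Subgroup K)) :
    w • b ≠ b ∧ (b : Subgroup K) ⊓ ((w • b : Sylow 2 K) : Subgroup K) ≠ ⊥ := by
  obtain ⟨hne0, T, hTS, hDT⟩ := hD
  have hD : IsLine S D := ⟨hne0, T, hTS, hDT⟩
  obtain ⟨z, hz, hz1⟩ := P.exists_Z_ne_one b
  have hw1 := CfsgLib.Signalizer.involution_ne_one hw.2.1
  have hwS : w ∈ (S : Subgroup K) := line_le hD hw.1
  have hwb : w ∉ (b : Subgroup K) := fun h => hb (P.le_of_mem hD hw.1 hw1 h)
  have hne : w • b ≠ b := fun h => hwb (mem_of_smul_eq hwS h)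
  have hnc : ¬ IsConj z w := by
    intro h
    obtain ⟨g, hg⟩ := isConj_iff.1 h
    have key : ∀ U : Sylow 2 K, w ∈ (U : Subgroup K) → g⁻¹ • U = b := fun U hU =>
      P.Z_unique b _ z hz hz1 (by
        rw [mem_smul_iff, inv_inv, hg]; exact hU)
    have hwT : w ∈ (T : Subgroup K) := (hDT ▸ hw.1 : w ∈ (S : Subgroup K) ⊓ (T : Subgroup K)).2
    exact hTS (MulAction.injective g⁻¹ ((key T hwT).trans (key S hwS).symm))
  obtain ⟨u, hu, huz, huw⟩ :=
    CfsgLib.Signalizer.exists_central_involution_of_not_conj (P.orderOf_Z hz hz1) hw.2.1 hnc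
  have hub' : u • b = b := P.Z_unique b _ z hz hz1 (by
    rw [mem_smul_iff, mul_assoc, ← huz, inv_mul_cancel_left]; exact P.Z_le b hz)
  have hub : u ∈ (b : Subgroup K) := by
    obtain ⟨U, hU⟩ := (IsPGroup.of_card (p := 2) (n := 1) (G := zpowers u)
      (by rw [Nat.card_zpowers, hu, pow_one])).exists_le_sylow
    exact mem_of_smul_eq (hU (mem_zpowers u)) hub'
  refine ⟨hne, fun h => CfsgLib.Signalizer.involution_ne_one hu ?_⟩
  rw [← mem_bot, ← h]
  refine ⟨hub, mem_smul_iff.2 ?_⟩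
  rw [mul_assoc, huw, inv_mul_cancel_left]
  exact hub

end Pencils

end CfsgLib.RankOneInter
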