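import Cfsg.Agent.Lib.Invol.RankOneInter.Pencil.Small
import Cfsg.Agent.S0111

/-!
Owner: helper5. The end of the pencil argument.

With lines of `q + 1` points every kernel has order two; the elements of a Sylow subgroup which are not kernels form a
subgroup of index two in the stabiliser of the pencils, and transfer gives a normal subgroup of index two meeting no
kernel.
-/

set_option autoImplicit false
set_option linter.style.haveILetI false
set_option linter.unusedSectionVars false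

namespace CfsgLib.RankOneInter

open Subgroup

/-- An element of some kernel at `S`, other than `1`. -/
def InKernel {K : Type*} [Group K] [Finite K] (S : Sylow 2 K) (x : K) : Prop :=
  ∃ E, IsLine S E ∧ x ∈ E ∧ x ≠ 1

namespace Pencils

variable {K : Type*} [Group K] [Finite K] (P : Pencils K) {S T : Sylow 2 K} {D E F : Subgroup K} {x y : K}

include P

/-- The pencils at `S` other than that of `E` are `q - 1`. -/
theorem card_pencils_other (hE : IsLine S E) :
    Nat.card {H : Subgroup K // (∃ F, IsLine S F ∧ R S F = H) ∧ H ≠ R S E} = P.q - 1 := by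
  classical
  let X := {H : Subgroup K // (∃ F, IsLine S F ∧ R S F = H) ∧ H ≠ R S E}
  have h1 : Nat.card {F : Subgroup K // IsLine S F ∧ R S F ≠ R S E} = Nat.card X * P.q := by
    haveI := Fintype.ofFinite X
    rw [← Nat.card_congr (Equiv.sigmaFiberEquiv
      (fun F : {F : Subgroup K // IsLine S F ∧ R S F ≠ R S E} => (⟨R S F.1, ⟨F.1, F.2.1, rfl⟩, F.2.2⟩ : X))),
      Nat.card_sigma, Nat.card_eq_fintype_card (α := X), ← Finset.card_univ, ← smul_eq_mul,
      ← Finset.sum_const]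
    refine Finset.sum_congr rfl fun H _ => ?_
    obtain ⟨⟨F₀, hF₀, he⟩, hne⟩ := H.2
    rw [← P.card_pencil hF₀]
    refine Nat.card_congr ⟨fun F => ⟨F.1.1, F.1.2.1, (congrArg Subtype.val F.2).trans he.symm⟩,
      fun F => ⟨⟨F.1, F.2.1, fun e => hne (he.symm.trans (F.2.2.symm.trans e))⟩, Subtype.ext (F.2.2.trans he)⟩,
      fun F => rfl, fun F => rfl⟩
  rw [P.card_others hE, P.sz_eq hE] at h1
  have := P.two_lt_q
  exact (Nat.eq_of_mul_eq_mul_right (by omega) h1).symm

/-- The torus of a line is transitive on the other pencils. -/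
theorem exists_pencil_move (hE : IsLine S E) :
    ∃ g : K, g • S = S ∧ (∀ d ∈ E, g * d = d * g) ∧
      ∀ F G : Subgroup K, IsLine S F → IsLine S G → R S F ≠ R S E → R S G ≠ R S E →
        ∃ n : ℕ, cj (g ^ n) (R S F) = R S G := by
  classical
  obtain ⟨g, hgS, hgE, hgR, htr, hfix⟩ := P.exists_torus hE
  refine ⟨g, hgS, hgE, fun F G hF hG hFne hGne => ?_⟩
  let X := {H : Subgroup K // (∃ F', IsLine S F' ∧ R S F' = H) ∧ H ≠ R S E}
  obtain ⟨z₀, hz₀, hz₀1⟩ := P.exists_Z_ne_one S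
  choose i hi using fun z : {z : P.Z S // z ≠ 1} =>
    htr z₀ hz₀ (z.1 : K) z.1.2 hz₀1 fun e => z.2 (Subtype.ext e)
  have hmem : ∀ n : ℕ, (∃ F', IsLine S F' ∧ R S F' = cj (g ^ n) (R S F)) ∧ cj (g ^ n) (R S F) ≠ R S E := by
    intro n
    refine ⟨⟨cj (g ^ n) F, ?_, R_cj F (P.smul_pow_eq hgS n)⟩, fun e => hFne ?_⟩
    · have := hF.cj (g ^ n)
      rwa [P.smul_pow_eq hgS n] at this
    · rw [← hgR n] at e
      exact map_injective (MulAut.conj (g ^ n)).injective e
  let f : {z : P.Z S // z ≠ 1} → X := fun z => ⟨cj (g ^ i z) (R S F), hmem (i z)⟩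
  have hinj : Function.Injective f := by
    intro a b h
    have h' : cj (g ^ i a) (R S F) = cj (g ^ i b) (R S F) := congrArg Subtype.val h
    obtain ⟨o, ho⟩ : ∃ o, orderOf g = o + 1 := ⟨orderOf g - 1, by have := orderOf_pos g; omega⟩
    have e : g ^ (o * i b) * g ^ i b = 1 := by
      rw [← pow_add, show o * i b + i b = orderOf g * i b by rw [ho]; ring, pow_mul, pow_orderOf_eq_one, one_pow]
    have e' : g ^ (o * i b) = (g ^ i b)⁻¹ := eq_inv_of_mul_eq_one_left e
    have hfx : cj (g ^ (o * i b + i a)) (R S F) = R S F := by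
      rw [pow_add, cj_mul, h', e', cj_cancel]
    have hc := hfix F hF hFne _ hfx z₀ hz₀
    refine Subtype.ext (Subtype.ext ?_)
    rw [← hi a, ← hi b]
    rw [pow_add, e'] at hc
    have : (g ^ i b)⁻¹ * g ^ i a * z₀ * ((g ^ i b)⁻¹ * g ^ i a)⁻¹ = z₀ := mul_inv_eq_iff_eq_mul.2 hc
    calc g ^ i a * z₀ * (g ^ i a)⁻¹
        = g ^ i b * ((g ^ i b)⁻¹ * g ^ i a * z₀ * ((g ^ i b)⁻¹ * g ^ i a)⁻¹) * (g ^ i b)⁻¹ := by group
      _ = g ^ i b * z₀ * (g ^ i b)⁻¹ := by rw [this]
  have hcard : Nat.card X ≤ Nat.card {z : P.Z S // z ≠ 1} := by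
    haveI := Fintype.ofFinite (P.Z S)
    rw [P.card_pencils_other hE, Nat.card_eq_fintype_card, Fintype.card_subtype_compl, Fintype.card_subtype_eq,
      ← Nat.card_eq_fintype_card, P.card_Z]
  obtain ⟨z, hz⟩ := (hinj.bijective_of_nat_card_le hcard).2 ⟨R S G, ⟨G, hG, rfl⟩, hGne⟩
  exact ⟨i z, congrArg Subtype.val hz⟩

/-- The elements of a kernel stabilise every pencil. -/
theorem line_le_N1 (hD : IsLine S D) (hE : IsLine S E) : E ≤ N1 S D := by
  classical
  haveI := Fact.mk Nat.prime_two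
  intro e he
  have heS : e • S = S := smul_sylow_of_mem (line_le hE he)
  by_cases hne : R S D = R S E
  · exact P.R_le_N1 (hne ▸ le_R hE he)
  obtain ⟨g, hgS, hgE, hmove⟩ := P.exists_pencil_move hE
  let X := {H : Subgroup K // (∃ F, IsLine S F ∧ R S F = H) ∧ H ≠ R S E}
  have hst : ∀ a ∈ zpowers e, a • S = S ∧ cj a (R S E) = R S E := by
    intro a ha
    have h := (zpowers_le.2 (le_R hE he)) ha
    exact ⟨smul_sylow_of_mem h.1, cj_eq_self (le_normalizer h)⟩
  letI : MulAction (zpowers e) X :=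
    { smul := fun a H => ⟨cj (a : K) H.1, by
        obtain ⟨⟨F, hF, hFe⟩, hH⟩ := H.2
        refine ⟨⟨cj (a : K) F, ?_, by rw [R_cj F (hst a a.2).1, hFe]⟩, fun h => hH ?_⟩
        · have := hF.cj (a : K)
          rwa [(hst a a.2).1] at this
        · exact map_injective (MulAut.conj (a : K)).injective (h.trans (hst a a.2).2.symm)⟩
      one_smul := fun H => Subtype.ext (cj_one H.1)
      mul_smul := fun a b H => Subtype.ext (cj_mul (a : K) (b : K) H.1) }
  obtain ⟨n, hn, hq⟩ := P.q_pow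
  obtain ⟨⟨H, ⟨F, hF, rfl⟩, hFE⟩, hfix⟩ :=
    (S.isPGroup'.to_le (zpowers_le.2 (line_le hE he))).nonempty_fixed_point_of_prime_not_dvd_card X (by
      rw [P.card_pencils_other hE, hq]
      have : 2 ∣ 2 ^ n := dvd_pow_self 2 (by omega)
      have := Nat.one_le_two_pow (n := n)
      omega)
  have hFf : cj e (R S F) = R S F := congrArg Subtype.val (hfix ⟨e, mem_zpowers e⟩)
  obtain ⟨k, hk⟩ := hmove F D hF hD hFE hne
  refine ⟨line_le hE he, Bender.mem_normalizer_of_map_conj_eq ?_⟩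
  have hc : e * g ^ k = g ^ k * e := ((show Commute e g from (hgE e he).symm).pow_right k).eq
  show cj e (R S D) = R S D
  rw [← hk, ← cj_mul, hc, cj_mul, hFf]

theorem others' (hD : IsLine S D) :
    (∀ E, IsLine S E → R S E ≠ R S D → ∃ x, IsTwo E x) ∧
    (∀ σ ∈ N1 S D, σ ∉ R S D →
      ∃ E, IsLine S E ∧ R S E ≠ R S D ∧ ∃ x, IsCentral E x ∧ σ⁻¹ * x ∈ D) :=
  P.others hD fun _ hE _ => P.line_le_N1 hD hE

/-- Every kernel has order two. -/
theorem exists_isTwo (hE : IsLine S E) : ∃ x, IsTwo E x := by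
  obtain ⟨F, hF, hne⟩ := P.exists_other hE
  exact (P.others' hF).1 E hE hne.symm

theorem R_form (hD : IsLine S D) {u : K} (hu : u ∈ R S D) : ∃ j ∈ P.Z S, ∃ d ∈ D, u = j * d := by
  classical
  have hinj : Function.Injective (fun p : P.Z S × D => (⟨(p.1 : K) * p.2,
      mul_mem (P.Z_le_R hD p.1.2) (le_R hD p.2.2)⟩ : R S D)) := by
    rintro ⟨⟨j, hj⟩, ⟨d, hd⟩⟩ ⟨⟨j', hj'⟩, ⟨d', hd'⟩⟩ h
    have h : j * d = j' * d' := congrArg Subtype.val h
    have e : j'⁻¹ * j = d' * d⁻¹ := by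
      rw [eq_mul_inv_iff_mul_eq, mul_assoc, h, inv_mul_cancel_left]
    obtain rfl : j' = j := inv_mul_eq_one.1 (P.eq_one_of_Z_line hD (mul_mem (inv_mem hj') hj)
      (e ▸ mul_mem hd' (inv_mem hd)))
    obtain rfl := mul_left_cancel h
    rfl
  obtain ⟨⟨j, d⟩, h⟩ := (hinj.bijective_of_nat_card_le (by
    rw [Nat.card_prod, P.card_Z, P.card_R hD, P.sz_eq hD, mul_comm])).2 ⟨u, hu⟩
  exact ⟨j, j.2, d, d.2, (congrArg Subtype.val h).symm⟩

theorem card_D (hD : IsLine S D) : Nat.card D = 2 := by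
  classical
  obtain ⟨x, hx, hxx, hx1, hall⟩ := P.exists_isTwo hD
  haveI := Fintype.ofFinite D
  rw [Nat.card_eq_fintype_card]
  have : (Finset.univ : Finset D) = {1, ⟨x, hx⟩} := by
    ext e
    simp only [Finset.mem_univ, Finset.mem_insert, Finset.mem_singleton, true_iff]
    exact (hall e e.2).imp (fun h => Subtype.ext h) fun h => Subtype.ext h
  rw [← Finset.card_univ, this, Finset.card_pair (fun e => hx1 (congrArg Subtype.val e).symm)]

/-- A kernel element of order two at `S` is central in its kernel. -/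
theorem inKernel_iff : InKernel S x ↔ ∃ E, IsLine S E ∧ IsTwo E x := by
  constructor
  · rintro ⟨E, hE, hx, hx1⟩
    obtain ⟨y, hy⟩ := P.exists_isTwo hE
    obtain h | rfl := hy.2.2.2 x hx
    · exact absurd h hx1
    · exact ⟨E, hE, hy⟩
  · rintro ⟨E, hE, hx⟩
    exact ⟨E, hE, hx.1, hx.2.2.1⟩

theorem inKernel_mem_N1 (hD : IsLine S D) (hx : InKernel S x) : x ∈ N1 S D := by
  obtain ⟨E, hE, hxE, -⟩ := hx
  exact P.line_le_N1 hD hE hxE

/-- The stabiliser of a pencil does not depend on it. -/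
theorem N1_eq (hD : IsLine S D) : N1 S D = closure {x | InKernel S x} := by
  classical
  haveI := Fact.mk Nat.prime_two
  set C := closure {x | InKernel S x} with hC
  have hle : C ≤ N1 S D := (closure_le _).2 fun x hx => P.inKernel_mem_N1 hD hx
  refine (eq_of_le_of_card_ge hle ?_).symm
  -- at least `q² + 1` elements
  have hlines : Nat.card (Lines S) = P.q * P.q := by
    have h := P.card_Lines hD
    rw [P.sz_eq hD] at h
    obtain ⟨m, hm⟩ : ∃ m, P.q = m + 1 := ⟨P.q - 1, by have := P.two_lt_q; omega⟩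
    rw [h, hm, Nat.add_sub_cancel]; ring
  have hgt : P.q * P.q < Nat.card C := by
    rw [← hlines]
    let f : Lines S → C := fun E => ⟨(P.exists_isTwo E.2).choose,
      subset_closure (show InKernel S _ from ⟨E.1, E.2, (P.exists_isTwo E.2).choose_spec.1,
        (P.exists_isTwo E.2).choose_spec.2.2.1⟩)⟩
    have hf : Function.Injective f := by
      intro a b h
      have e : (P.exists_isTwo a.2).choose = (P.exists_isTwo b.2).choose := congrArg Subtype.val h
      exact Subtype.ext (P.eq_of_common a.2 b.2 (P.exists_isTwo a.2).choose_spec.1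
        (e.symm ▸ (P.exists_isTwo b.2).choose_spec.1) (P.exists_isTwo a.2).choose_spec.2.2.1)
    refine lt_of_le_of_ne (Nat.card_le_card_of_injective f hf) fun h => ?_
    obtain ⟨E, hE⟩ := (hf.bijective_of_nat_card_le h.ge).2 1
    exact (P.exists_isTwo E.2).choose_spec.2.2.1 (congrArg Subtype.val hE)
  have hN : Nat.card (N1 S D) = 2 * (P.q * P.q) := by
    rw [P.card_N1 hD, P.card_R hD, P.card_D hD, P.sz_eq hD]; ring
  obtain ⟨n, -, hq⟩ := P.q_pow
  have hp : IsPGroup 2 C := S.isPGroup'.to_le (hle.trans inf_le_left)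
  obtain ⟨k, hk⟩ := hp.exists_card_eq
  rw [hN, hk, hq, ← pow_add, ← pow_succ']
  rw [hk, hq, ← pow_add, Nat.pow_lt_pow_iff_right (by norm_num)] at hgt
  exact Nat.pow_le_pow_right (by norm_num) (by omega)

/-- Right multiplication by a kernel element swaps the kernel elements and the others. -/
theorem inKernel_mul_iff (hx : InKernel S x) {u : K} (hu : u ∈ closure {x | InKernel S x}) :
    InKernel S (u * x) ↔ ¬ InKernel S u := by
  obtain ⟨D, hD, hxD⟩ := P.inKernel_iff.1 hx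
  have hu' : u ∈ N1 S D := by rwa [P.N1_eq hD]
  have hinR : ∀ {v : K}, InKernel S v → v ∈ R S D → ∃ E, IsLine S E ∧ IsTwo E v ∧ R S E = R S D := by
    intro v hv hvR
    obtain ⟨E, hE, hvE⟩ := P.inKernel_iff.1 hv
    exact ⟨E, hE, hvE, by_contra fun h => P.not_mem_R hD hE h hvE.isCentral hvR⟩
  by_cases huR : u ∈ R S D
  · obtain ⟨j, hj, d, hd, rfl⟩ := P.R_form hD huR
    have hZ : ∀ i ∈ P.Z S, ¬ InKernel S i := by
      rintro i hi ⟨E, hE, hiE, hi1⟩
      exact hi1 (P.eq_one_of_Z_line hE hi hiE)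
    have hZx : ∀ i ∈ P.Z S, InKernel S (i * x) := by
      intro i hi
      by_cases hi1 : i = 1
      · rw [hi1, one_mul]; exact hx
      · obtain ⟨E, hE, hix⟩ := P.exists_comp hD hxD.isCentral hi hi1
        exact ⟨E, hE.1, hix, P.mul_ne_one hD hxD.isCentral hi⟩
    rcases hxD.2.2.2 d hd with rfl | rfl
    · rw [mul_one]
      exact iff_of_true (hZx j hj) (hZ j hj)
    · rw [mul_assoc, hxD.2.1, mul_one]
      exact iff_of_false (hZ j hj) (not_not.2 (hZx j hj))
  · obtain ⟨E, hE, hne, y, hy, hyD⟩ := (P.others' hD).2 u hu' huR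
    have hyK : InKernel S y := ⟨E, hE, hy.1, CfsgLib.Signalizer.involution_ne_one hy.2.1⟩
    have hone : ∀ v : K, InKernel S v → y⁻¹ * v ∈ D → v = y := by
      intro v hv h
      obtain ⟨F, hF, hvF⟩ := P.inKernel_iff.1 hv
      exact (P.coset_unique hD hE hne hy hvF.2.1 h).symm
    rcases hxD.2.2.2 _ hyD with h | h
    · obtain rfl := inv_mul_eq_one.1 h
      refine iff_of_false (fun h' => hxD.2.2.1 ?_) (not_not.2 hyK)
      have := hone _ h' (by rw [inv_mul_cancel_left]; exact hxD.1)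
      exact mul_left_cancel (this.trans (mul_one u).symm)
    · have e : y = u * x := by rw [← h, mul_inv_cancel_left]
      refine iff_of_true (e ▸ hyK) fun h' => hxD.2.2.1 ?_
      have := hone u h' (by rw [e, mul_inv_rev, inv_mul_cancel_right]; exact inv_mem hxD.1)
      exact (mul_left_cancel ((mul_one u).trans (this.trans e))).symm

/-- The elements of the stabiliser of the pencils outside the kernels. -/
theorem exists_even_part (hD : IsLine S D) :
    ∃ Y : Subgroup K, ∀ u, u ∈ Y ↔ u ∈ closure {x | InKernel S x} ∧ ¬ InKernel S u := by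
  set N := closure {x | InKernel S x}
  obtain ⟨x, hx⟩ : ∃ x, InKernel S x := by
    obtain ⟨x, hx⟩ := P.exists_isTwo hD
    exact ⟨x, D, hD, hx.1, hx.2.2.1⟩
  have hxx : x * x = 1 := by
    obtain ⟨E, -, hE⟩ := P.inKernel_iff.1 hx; exact hE.2.1
  have hinv : ∀ v, InKernel S v → InKernel S v⁻¹ := fun v hv => by
    obtain ⟨E, -, hE⟩ := P.inKernel_iff.1 hv
    rwa [inv_eq_of_mul_eq_one_right hE.2.1]
  -- right multiplication
  have hr : ∀ v, InKernel S v → ∀ u ∈ N, (InKernel S (u * v) ↔ ¬ InKernel S u) := fun v hv u hu =>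
    P.inKernel_mul_iff hv hu
  -- left multiplication
  have hl : ∀ v, InKernel S v → ∀ u ∈ N, (InKernel S (v * u) ↔ ¬ InKernel S u) := by
    intro v hv u hu
    have h := hr v⁻¹ (hinv v hv) u⁻¹ (inv_mem hu)
    rw [← mul_inv_rev] at h
    exact ⟨fun h1 h2 => (h.1 (hinv _ h1)) (hinv _ h2), fun h2 =>
      inv_inv (v * u) ▸ hinv _ (h.2 fun h3 => h2 (inv_inv u ▸ hinv _ h3))⟩
  have hone : ¬ InKernel S (1 : K) := fun ⟨E, _, _, h⟩ => h rfl
  refine ⟨{
    carrier := {u | u ∈ N ∧ ¬ InKernel S u}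
    one_mem' := ⟨one_mem _, hone⟩
    inv_mem' := fun {u} hu => ⟨inv_mem hu.1, fun h => hu.2 (inv_inv u ▸ hinv _ h)⟩
    mul_mem' := fun {a b} ha hb => ⟨mul_mem ha.1 hb.1, ?_⟩ }, fun u => Iff.rfl⟩
  -- `a = (a x) x`
  have hax : InKernel S (a * x) := (hr x hx a ha.1).2 ha.2
  have e : a * b = a * x * (x * b) := by rw [mul_assoc, ← mul_assoc x x, hxx, one_mul]
  rw [e]
  exact fun h => (hl _ hax (x * b) (mul_mem (subset_closure hx) hb.1)).1 h ((hl x hx b hb.1).2 hb.2)

theorem smul_inKernel {g : K} (hg : g • S = S) (hx : InKernel S x) : InKernel S (g * x * g⁻¹) := by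
  obtain ⟨E, hE, hxE, hx1⟩ := hx
  refine ⟨cj g E, ?_, conj_mem_cj hxE, fun h => hx1 (conj_eq_one_iff.1 h)⟩
  have := hE.cj g
  rwa [hg] at this

theorem smul_closure {g : K} (hg : g • S = S) {u : K} (hu : u ∈ closure {x | InKernel S x}) :
    g * u * g⁻¹ ∈ closure {x | InKernel S x} := by
  have h : (closure {x | InKernel S x}).map (MulAut.conj g).toMonoidHom ≤ closure {x | InKernel S x} := by
    rw [MonoidHom.map_closure, closure_le]
    rintro _ ⟨y, hy, rfl⟩
    exact subset_closure (P.smul_inKernel hg hy)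
  exact h ⟨u, hu, rfl⟩

/-- Squares avoid the kernels. -/
theorem sq_mem_even (hD : IsLine S D) {σ : K} (hσ : σ ∈ (S : Subgroup K)) :
    σ * σ ∈ closure {x | InKernel S x} ∧ ¬ InKernel S (σ * σ) := by
  haveI := Fact.mk Nat.prime_two
  set N := closure {x | InKernel S x} with hN
  constructor
  · by_cases hσN : σ ∈ N
    · exact mul_mem hσN hσN
    -- some element outside squares into `N`
    obtain ⟨τ, hτ, hτN, hτ2⟩ : ∃ τ ∈ (S : Subgroup K), τ ∉ N ∧ τ * τ ∈ N := by
      obtain ⟨k, hk⟩ := S.isPGroup' ⟨σ, hσ⟩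
      have hk' : σ ^ 2 ^ k = 1 := congrArg Subtype.val hk
      have key : ∀ (k : ℕ) (τ : K), τ ∈ (S : Subgroup K) → τ ∉ N → τ ^ 2 ^ k = 1 →
          ∃ τ ∈ (S : Subgroup K), τ ∉ N ∧ τ * τ ∈ N := by
        intro k
        induction k with
        | zero =>
          intro τ _ h1 h2
          rw [pow_zero, pow_one] at h2
          exact absurd (h2 ▸ one_mem _) h1
        | succ k ih =>
          intro τ hτ h1 h2
          by_cases h3 : τ * τ ∈ N
          · exact ⟨τ, hτ, h1, h3⟩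
          · exact ih _ (mul_mem hτ hτ) h3 (by rw [← pow_two, ← pow_mul, ← pow_succ', h2])
      exact key k σ hσ hσN hk'
    have hout : ∀ υ ∈ (S : Subgroup K), υ ∉ N → IsLine S (cj υ D) ∧ R S (cj υ D) ≠ R S D := by
      intro υ hυ hυN
      have hS : υ • S = S := smul_sylow_of_mem hυ
      refine ⟨?_, fun e => hυN ?_⟩
      · have := hD.cj υ
        rwa [hS] at this
      · rw [hN, ← P.N1_eq hD]
        rw [R_cj D hS] at e
        exact ⟨hυ, Bender.mem_normalizer_of_map_conj_eq e⟩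
    obtain ⟨hlσ, hnσ⟩ := hout σ hσ hσN
    obtain ⟨hlτ, hnτ⟩ := hout τ hτ hτN
    obtain ⟨g, hgS, hgD, hmove⟩ := P.exists_pencil_move hD
    obtain ⟨n, hn⟩ := hmove _ _ hlτ hlσ hnτ hnσ
    have hgn : g ^ n • S = S := P.smul_pow_eq hgS n
    have hgR : cj (g ^ n) (R S D) = R S D := by
      rw [← R_cj D hgn, cj_eq_self (P.cent_normalizes hD (P.line_commute_torus hgD n))]
    set τ' := g ^ n * τ * (g ^ n)⁻¹ with hτ'
    have hτ'S : τ' ∈ (S : Subgroup K) := by
      have := conj_mem_smul (g := g ^ n) hτ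
      rwa [hgn] at this
    have hτ'2 : τ' * τ' ∈ N := by
      rw [show τ' * τ' = g ^ n * (τ * τ) * (g ^ n)⁻¹ by rw [hτ']; group]
      exact P.smul_closure hgn hτ2
    have he : cj τ' (R S D) = cj σ (R S D) := by
      rw [R_cj D (smul_sylow_of_mem hτ)] at hn
      rw [R_cj D (smul_sylow_of_mem hσ)] at hn
      rw [← hn, hτ', cj_mul, cj_mul]
      congr 2
      conv_lhs => rw [← hgR, cj_cancel]
    have hr : τ'⁻¹ * σ ∈ N := by
      rw [hN, ← P.N1_eq hD]
      refine ⟨show τ'⁻¹ * σ ∈ (S : Subgroup K) from mul_mem (inv_mem hτ'S) hσ, Bender.mem_normalizer_of_map_conj_eq ?_⟩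
      show cj (τ'⁻¹ * σ) (R S D) = R S D
      rw [cj_mul, ← he, cj_cancel]
    have h1 := P.smul_closure (smul_sylow_of_mem (inv_mem hτ'S)) hr
    have e : σ * σ = τ' * τ' * (τ'⁻¹ * (τ'⁻¹ * σ) * τ'⁻¹⁻¹) * (τ'⁻¹ * σ) := by group
    rw [e]
    exact mul_mem (mul_mem hτ'2 h1) hr
  · intro h
    obtain ⟨E, hE, hx⟩ := P.inKernel_iff.1 h
    have hR : σ ∈ R S E := P.mem_R_of_commute hE hx.1 hx.2.2.1 hσ (by group)
    obtain ⟨j, hj, d, hd, e⟩ := P.R_form hE hR
    refine hx.2.2.1 ?_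
    have hjd : d * j = j * d := P.Z_central S j hj d (line_le hE hd)
    rw [e, mul_assoc, ← mul_assoc d, hjd, mul_assoc j d d, ← mul_assoc, P.Z_sq S j hj, one_mul]
    rcases hx.2.2.2 d hd with h' | h'
    · rw [h', one_mul]
    · rw [h', hx.2.1]

/-- All kernels at `S` are conjugate. -/
theorem isConj_inKernel (hD : IsLine S D) (hx : InKernel S x) (hy : InKernel S y) : IsConj x y := by
  obtain ⟨E, hE, hxE⟩ := P.inKernel_iff.1 hx
  obtain ⟨F, hF, hyF⟩ := P.inKernel_iff.1 hy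
  obtain ⟨h, hhS, hh⟩ : ∃ h : K, h • S = S ∧ cj h (R S E) = R S F := by
    by_cases hEF : R S E = R S F
    · exact ⟨1, one_smul _ _, by rw [cj_one, hEF]⟩
    -- a third pencil
    obtain ⟨G, hG, hGE, hGF⟩ : ∃ G, IsLine S G ∧ R S G ≠ R S E ∧ R S G ≠ R S F := by
      by_contra hno
      push Not at hno
      have h : Nat.card {H : Subgroup K // (∃ G, IsLine S G ∧ R S G = H) ∧ H ≠ R S E} ≤ 1 := by
        rw [Finite.card_le_one_iff_subsingleton]
        refine ⟨fun a b => Subtype.ext ?_⟩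
        obtain ⟨⟨Ga, hGa, ha⟩, hna⟩ := a.2
        obtain ⟨⟨Gb, hGb, hb⟩, hnb⟩ := b.2
        exact (ha.symm.trans (hno Ga hGa (ha.symm ▸ hna))).trans
          ((hno Gb hGb (hb.symm ▸ hnb)).symm.trans hb)
      rw [P.card_pencils_other hE] at h
      have := P.two_lt_q
      omega
    obtain ⟨g, hgS, -, hmove⟩ := P.exists_pencil_move hG
    obtain ⟨n, hn⟩ := hmove E F hE hF hGE.symm hGF.symm
    exact ⟨g ^ n, P.smul_pow_eq hgS n, hn⟩
  have hE' : IsLine S (cj h E) := by
    have := hE.cj h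
    rwa [hhS] at this
  obtain ⟨σ, -, hσ⟩ := P.exists_translation hE' hF (by rw [R_cj E hhS, hh])
  have hmem : σ * (h * x * h⁻¹) * σ⁻¹ ∈ F := hσ ▸ conj_mem_cj (conj_mem_cj hxE.1)
  rcases hyF.2.2.2 _ hmem with e | e
  · exact absurd (conj_eq_one_iff.1 (conj_eq_one_iff.1 e)) hxE.2.2.1
  · exact isConj_iff.2 ⟨σ * h, by rw [← e]; group⟩

/-- A normal subgroup of index two containing every `Z S` and meeting no kernel. -/
theorem exists_normal (hD : IsLine S D) :
    ∃ M : Subgroup K, M.Normal ∧ M.index = 2 ∧ (∀ U : Sylow 2 K, P.Z U ≤ M) ∧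
      ∀ U V : Sylow 2 K, U ≠ V → ∀ u ∈ M, u ∈ (U : Subgroup K) → u ∈ (V : Subgroup K) → u = 1 := by
  classical
  haveI := Fact.mk Nat.prime_two
  obtain ⟨Y, hY⟩ := P.exists_even_part hD
  obtain ⟨w, hw⟩ := P.exists_isTwo hD
  have hwK : InKernel S w := ⟨D, hD, hw.1, hw.2.2.1⟩
  have hwS : w ∈ (S : Subgroup K) := line_le hD hw.1
  have hYS : Y ≤ (S : Subgroup K) := fun u hu => by
    have h := ((hY u).1 hu).1
    rw [← P.N1_eq hD] at h
    exact h.1
  let 𝒮 : Set (Subgroup K) := {M | Y ≤ M ∧ M ≤ (S : Subgroup K) ∧ w ∉ M}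
  obtain ⟨Q, hQ⟩ := (Set.toFinite 𝒮).exists_maximal ⟨Y, le_rfl, hYS, fun h => ((hY w).1 h).2 hwK⟩
  obtain ⟨hYQ, hQS, hwQ⟩ := hQ.1
  have hsq : ∀ σ ∈ (S : Subgroup K), σ * σ ∈ Q := fun σ hσ => hYQ ((hY _).2 (P.sq_mem_even hD hσ))
  have hQn : ∀ σ ∈ (S : Subgroup K), ∀ u ∈ Q, σ * u * σ⁻¹ ∈ Q := fun σ hσ u hu => by
    have h1 := mul_mem (hsq (σ * u) (mul_mem hσ (hQS hu))) (mul_mem (inv_mem hu) (inv_mem (hsq σ hσ)))
    simpa [mul_assoc] using h1
  have hcover : ∀ σ ∈ (S : Subgroup K), σ ∉ Q → σ⁻¹ * w ∈ Q := by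
    intro σ hσ hσQ
    let Qσ : Subgroup K :=
      { carrier := {v | v ∈ Q ∨ σ⁻¹ * v ∈ Q}
        one_mem' := Or.inl (one_mem _)
        inv_mem' := fun {a} ha => ha.imp inv_mem fun h => by
          have h1 := mul_mem (inv_mem (hsq σ hσ)) (hQn σ hσ _ (inv_mem h))
          have e : (σ * σ)⁻¹ * (σ * (σ⁻¹ * a)⁻¹ * σ⁻¹) = σ⁻¹ * a⁻¹ := by group
          rwa [e] at h1
        mul_mem' := fun {a b} ha hb => by
          have hc := hQn σ⁻¹ (inv_mem hσ)
          rcases ha with ha | ha <;> rcases hb with hb | hb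
          · exact Or.inl (mul_mem ha hb)
          · refine Or.inr ?_
            have h1 := mul_mem (hc a ha) hb
            have e : σ⁻¹ * a * σ⁻¹⁻¹ * (σ⁻¹ * b) = σ⁻¹ * (a * b) := by group
            rwa [e] at h1
          · refine Or.inr ?_
            have h1 := mul_mem ha hb
            rwa [mul_assoc] at h1
          · refine Or.inl ?_
            have h1 := mul_mem (mul_mem (hQn σ hσ _ ha) (hsq σ hσ)) hb
            have e : σ * (σ⁻¹ * a) * σ⁻¹ * (σ * σ) * (σ⁻¹ * b) = a * b := by group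
            rwa [e] at h1 }
    have hle : Q ≤ Qσ := fun v hv => Or.inl hv
    by_contra hw'
    have hmem : Qσ ∈ 𝒮 := ⟨hYQ.trans hle, fun v hv => hv.elim (fun h => hQS h) fun h => by
        have := mul_mem hσ (hQS h); rwa [mul_inv_cancel_left] at this,
      fun h => h.elim hwQ hw'⟩
    exact hσQ ((hQ.2 hmem hle) (Or.inr (by rw [inv_mul_cancel]; exact one_mem _)))
  have hind : Q.relIndex (S : Subgroup K) = 2 := by
    rw [relIndex, index_eq_two_iff]
    refine ⟨⟨w, hwS⟩, fun b => ?_⟩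
    simp only [mem_subgroupOf, Subgroup.coe_mul]
    by_cases hb : (b : K) ∈ Q
    · exact Or.inr ⟨hb, fun h => hwQ (by simpa using mul_mem (inv_mem hb) h)⟩
    · refine Or.inl ⟨?_, hb⟩
      have h1 := mul_mem (hsq b b.2) (hcover b b.2 hb)
      have e : (b : K) * b * ((b : K)⁻¹ * w) = b * w := by group
      rwa [e] at h1
  rcases Cfsg.Agent.S0111.result S Q hQS hind w
      (CfsgLib.Signalizer.orderOf_eq_two_of hw.2.2.1 hw.2.1) hwS hwQ with ⟨M, hMn, hM2, hwM⟩ | ⟨g, hg⟩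
  swap
  · -- no conjugate of `w` lies in `Q`
    exfalso
    have hgS : g * w * g⁻¹ ∈ (S : Subgroup K) := hQS hg
    have h1 : g * w * g⁻¹ ≠ 1 := fun e => hw.2.2.1 (conj_eq_one_iff.1 e)
    have hl := hD.cj g
    have hle := P.le_of_mem hl (conj_mem_cj hw.1) h1 hgS
    have hK : InKernel S (g * w * g⁻¹) := ⟨cj g D, P.isLine_of_le hl hle, conj_mem_cj hw.1, h1⟩
    refine hwQ ?_
    have hy := (P.inKernel_mul_iff hK (subset_closure hwK))
    have h2 : w * (g * w * g⁻¹) ∈ Y :=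
      (hY _).2 ⟨mul_mem (subset_closure hwK) (subset_closure hK), fun h => hy.1 h hwK⟩
    have := mul_mem (hYQ h2) (inv_mem hg)
    rwa [mul_inv_cancel_right] at this
  refine ⟨M, hMn, hM2, ?_, ?_⟩
  · -- `Z` lies in it
    have hZS : P.Z S ≤ M := by
      intro j hj
      by_cases hj1 : j = 1
      · rw [hj1]; exact one_mem _
      obtain ⟨E, hE, hjw⟩ := P.exists_comp hD hw.isCentral hj hj1
      obtain ⟨hc, hR⟩ := P.comp_central hD hw.isCentral hE hj hjw
      obtain ⟨σ, -, he⟩ := P.exists_translation hD hE.1 hR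
      rw [← he, mem_cj] at hjw
      rcases hw.2.2.2 _ hjw with h | h
      · exact absurd (conj_eq_one_iff.1 (by simpa using h : σ⁻¹ * (j * w) * σ⁻¹⁻¹ = 1))
          (P.mul_ne_one hD hw.isCentral hj)
      · have e : j = σ * w * σ⁻¹ * w := by
          calc j = j * w * w := by rw [mul_assoc, hw.2.1, mul_one]
            _ = σ * (σ⁻¹ * (j * w) * σ) * σ⁻¹ * w := by group
            _ = _ := by rw [h]
        rw [e]
        have := (Subgroup.mul_mem_iff_of_index_two hM2 (a := σ * w * σ⁻¹) (b := w)).2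
          ⟨fun h => absurd (by simpa [mul_assoc] using hMn.conj_mem _ h σ⁻¹) hwM, fun h => absurd h hwM⟩
        exact this
    intro U z hz
    obtain ⟨g, rfl⟩ := MulAction.exists_smul_eq K S U
    have h1 := P.Z_conj g⁻¹ (g • S) z hz
    rw [inv_smul_smul, inv_inv] at h1
    have := hMn.conj_mem _ (hZS h1) g
    simpa [mul_assoc] using this
  · intro U V hUV u hu huU huV
    by_contra hu1
    obtain ⟨g, rfl⟩ := MulAction.exists_smul_eq K S U
    have hl : IsLine (g • S) (((g • S : Sylow 2 K) : Subgroup K) ⊓ (V : Subgroup K)) :=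
      P.isLine_inf hUV fun e => hu1 (mem_bot.1 (e ▸ ⟨huU, huV⟩))
    have hl' := hl.cj g⁻¹
    rw [inv_smul_smul] at hl'
    have hK : InKernel S (g⁻¹ * u * g⁻¹⁻¹) :=
      ⟨_, hl', conj_mem_cj ⟨huU, huV⟩, fun e => hu1 (conj_eq_one_iff.1 e)⟩
    obtain ⟨c, hc⟩ := isConj_iff.1 (P.isConj_inKernel hD hK hwK)
    exact hwM (hc ▸ hMn.conj_mem _ (hMn.conj_mem _ hu g⁻¹) c)

end Pencils

end CfsgLib.RankOneInter
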