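import Cfsg.Agent.Lib.Invol.RankOneInter.Pencil.Line

/-!
Owner: helper5. Counting in a `Pencils`.

* `card_pencil`: the lines at a point with the same `R` are `q` in number.
* `comp_conj`, `off_trans`: the centraliser of `w` is transitive on the companions and on the outside points.
* `sz_const`, `card_points`: all lines have `s + 1` points and there are `(s + 1) (1 + (q - 1) s)` points.
-/

set_option autoImplicit false
set_option linter.style.haveILetI false
set_option linter.unusedSectionVars false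

namespace CfsgLib.RankOneInter

open Subgroup

namespace Pencils

variable {K : Type*} [Group K] [Finite K] (P : Pencils K) {S T : Sylow 2 K} {D E : Subgroup K} {w : K}

include P

theorem mul_ne_one (hD : IsLine S D) (hw : IsCentral D w) {j : K} (hj : j ∈ P.Z S) : j * w ≠ 1 := fun h => by
  have e := eq_inv_of_mul_eq_one_left h
  rw [CfsgLib.Signalizer.involution_inv hw.2.1] at e
  exact CfsgLib.Signalizer.involution_ne_one hw.2.1 (P.eq_one_of_Z_line hD (e ▸ hj) hw.1)

theorem exists_form' (hD : IsLine S D) (hw : IsCentral D w) (hE : IsLine S E) (hR : R S E = R S D) :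
    ∃ j ∈ P.Z S, j * w ∈ E := by
  rcases eq_or_ne E D with rfl | hne
  · exact ⟨1, one_mem _, by rw [one_mul]; exact hw.1⟩
  · obtain ⟨j, hj, -, hjw, -⟩ := P.exists_form hD hw (P.isComp_of_R_eq hD hw hE hne hR)
    exact ⟨j, hj, hjw⟩

/-- The pencil of a line has `q` lines. -/
theorem card_pencil (hD : IsLine S D) :
    Nat.card {E : Subgroup K // IsLine S E ∧ R S E = R S D} = P.q := by
  classical
  obtain ⟨w, hw⟩ := P.exists_central hD
  rw [← P.card_Z S]
  refine Nat.card_congr (Equiv.ofBijective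
    (fun E => ⟨(P.exists_form' hD hw E.2.1 E.2.2).choose, (P.exists_form' hD hw E.2.1 E.2.2).choose_spec.1⟩)
    ⟨fun E E' h => ?_, fun j => ?_⟩)
  · have h1 := (P.exists_form' hD hw E.2.1 E.2.2).choose_spec
    have h2 := (P.exists_form' hD hw E'.2.1 E'.2.2).choose_spec
    have e := congrArg Subtype.val h
    simp only at e
    rw [← e] at h2
    exact Subtype.ext (P.eq_of_common E.2.1 E'.2.1 h1.2 h2.2 (P.mul_ne_one hD hw h1.1))
  · obtain ⟨E, hE⟩ : ∃ E, (IsLine S E ∧ R S E = R S D) ∧ (j : K) * w ∈ E := by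
      by_cases hj : (j : K) = 1
      · exact ⟨D, ⟨hD, rfl⟩, by rw [hj, one_mul]; exact hw.1⟩
      · obtain ⟨E, hE, hjw⟩ := P.exists_comp hD hw j.2 hj
        exact ⟨E, ⟨hE.1, (P.comp_central hD hw hE j.2 hjw).2⟩, hjw⟩
    refine ⟨⟨E, hE.1⟩, Subtype.ext ?_⟩
    have h1 := (P.exists_form' hD hw hE.1.1 hE.1.2).choose_spec
    exact P.form_unique hE.1.1 h1.1 j.2 h1.2 hE.2

theorem isComp_iff (hD : IsLine S D) (hw : IsCentral D w) :
    IsComp S D w E ↔ (IsLine S E ∧ R S E = R S D) ∧ E ≠ D := by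
  refine ⟨fun h => ⟨⟨h.1, ?_⟩, h.2.1⟩, fun h => P.isComp_of_R_eq hD hw h.1.1 h.2 h.1.2⟩
  obtain ⟨j, hj, -, hjw, -⟩ := P.exists_form hD hw h
  exact (P.comp_central hD hw h hj hjw).2

theorem card_comp (hD : IsLine S D) (hw : IsCentral D w) :
    Nat.card {E : Subgroup K // IsComp S D w E} = P.q - 1 := by
  classical
  haveI := Fintype.ofFinite (Subgroup K)
  rw [← P.card_pencil hD, Nat.card_eq_fintype_card, Nat.card_eq_fintype_card, Fintype.card_subtype,
    Fintype.card_subtype, ← Finset.card_erase_of_mem (a := D) (by simp [hD])]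
  congr 1
  ext E
  simp [P.isComp_iff hD hw, and_comm]

theorem cent_normalizes (hD : IsLine S D) {g : K} (h : ∀ d ∈ D, g * d = d * g) :
    g ∈ normalizer (D : Set K) :=
  mem_normalizer_iff.2 fun x => by
    constructor
    · intro hx; rwa [h x hx, mul_inv_cancel_right]
    · intro hx
      have h2 := h _ hx
      rw [inv_mul_cancel_right] at h2
      rwa [show x = g * x * g⁻¹ from mul_left_cancel h2.symm]

/-- The centraliser of `w` is transitive on the companions. -/
theorem comp_conj (hD : IsLine S D) (hw : IsCentral D w) {T T' : Sylow 2 K} {E' : Subgroup K}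
    (hT : D ≤ (T : Subgroup K)) (hT' : D ≤ (T' : Subgroup K)) (hE : IsComp T D w E) (hE' : IsComp T' D w E') :
    ∃ h : K, h * w = w * h ∧ h ∈ normalizer (D : Set K) ∧ h • T = T' ∧ cj h E = E' := by
  have hDT := P.isLine_D hD hT
  have hDT' := P.isLine_D hD hT'
  obtain ⟨h₁, hh₁, hn₁, hm⟩ := P.exists_move hDT hw hT'
  have hE₁ := P.isComp_conj hE hh₁ hn₁
  rw [hm] at hE₁
  obtain ⟨i, hi, hi1, hiw, -⟩ := P.exists_form hDT' hw hE₁
  obtain ⟨j, hj, hj1, hjw, hjw1⟩ := P.exists_form hDT' hw hE'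
  obtain ⟨U, hU, hUS, -⟩ := P.exists_third (T := T') hDT'
  obtain ⟨g, -, hgS, -, hgD, hgt, -⟩ := (P.lineFacts hDT' hU hUS).torus
  obtain ⟨n, hn⟩ := hgt i hi j hj hi1 hj1
  have hc : ∀ d ∈ D, g ^ n * d = d * g ^ n := fun d hd => ((show Commute g d from hgD d hd).pow_left n).eq
  have hgn : g ^ n • T' = T' := by
    have hm : ∀ m : ℕ, g ^ m • T' = T' := fun m => by
      induction m with
      | zero => rw [pow_zero, one_smul]
      | succ m ih => rw [pow_succ, mul_smul, hgS, ih]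
    exact hm n
  have hgN := P.cent_normalizes hDT' hc
  have hE₂ := P.isComp_conj hE₁ (hc w hw.1) hgN
  rw [hgn] at hE₂
  have e : cj (g ^ n) (cj h₁ E) = E' := by
    refine P.eq_of_common hE₂.1 hE'.1 (x := j * w) ?_ hjw hjw1
    rw [mem_cj, ← hn]
    convert hiw using 1
    calc (g ^ n)⁻¹ * (g ^ n * i * (g ^ n)⁻¹ * w) * g ^ n = i * ((g ^ n)⁻¹ * (w * g ^ n)) := by group
      _ = i * w := by rw [← hc w hw.1, inv_mul_cancel_left]
  refine ⟨g ^ n * h₁, ?_, mul_mem hgN hn₁, by rw [mul_smul, hm, hgn], ?_⟩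
  · rw [mul_assoc, hh₁, ← mul_assoc, hc w hw.1, mul_assoc]
  · rw [← e]
    simp only [map_map]
    congr 1
    ext x
    simp [mul_assoc]

theorem off_of_normalizes {h : K} (hn : h ∈ normalizer (D : Set K)) {b : Sylow 2 K}
    (hb : ¬ D ≤ (b : Subgroup K)) : ¬ D ≤ ((h • b : Sylow 2 K) : Subgroup K) := by
  intro hle
  rw [← cj_eq_self hn] at hle
  exact hb (cj_le_smul_iff.1 hle)

/-- The centraliser of `w` is transitive on the points outside the line. -/
theorem off_trans (hD : IsLine S D) (hw : IsCentral D w) {b b' : Sylow 2 K} (hb : ¬ D ≤ (b : Subgroup K))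
    (hb' : ¬ D ≤ (b' : Subgroup K)) : ∃ h : K, h * w = w * h ∧ h • b = b' := by
  obtain ⟨T, hT, E, hE, hEb⟩ := P.exists_proj hD hw hb
  obtain ⟨T', hT', E', hE', hEb'⟩ := P.exists_proj hD hw hb'
  obtain ⟨h, hh, hn, hTT, hEE⟩ := P.comp_conj hD hw hT hT' hE hE'
  have hb₁ : ¬ D ≤ ((h • b : Sylow 2 K) : Subgroup K) := P.off_of_normalizes hn hb
  have hb₁E : E' ≤ ((h • b : Sylow 2 K) : Subgroup K) := hEE ▸ cj_le_smul_iff.2 hEb
  obtain ⟨x, hx, hxb⟩ := (P.lineFacts hE'.1 hb₁E (fun e => hb₁ (e ▸ hT'))).trans b' hEb'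
    (fun e => hb' (e ▸ hT'))
  have hDT' := P.isLine_D hD hT'
  rw [((P.isComp_iff hDT' hw).1 hE').1.2] at hx
  have hxw : x * w = w * x := P.isLine_cent hDT' hw.1 hw.2.2 hx
  exact ⟨x * h, by rw [mul_assoc, hh, ← mul_assoc, hxw, mul_assoc], by rw [mul_smul, hxb]⟩

theorem card_line_ne (hE : IsLine S E) :
    Nat.card {U : Sylow 2 K // E ≤ (U : Subgroup K) ∧ U ≠ S} = sz S E := by
  classical
  haveI := Fintype.ofFinite (Sylow 2 K)
  have h := P.card_line hE
  rw [Nat.card_eq_fintype_card, Fintype.card_subtype] at h ⊢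
  have e : Finset.univ.filter (fun U : Sylow 2 K => E ≤ (U : Subgroup K) ∧ U ≠ S) =
      (Finset.univ.filter fun U : Sylow 2 K => E ≤ (U : Subgroup K)).erase S := by
    ext U; simp [and_comm]
  rw [e, Finset.card_erase_of_mem (by simp [line_le hE]), h, Nat.add_sub_cancel]

theorem sz_cj (hE : IsLine S E) (h : K) : sz (h • S) (cj h E) = sz S E := by
  have h1 := P.card_line hE
  have h2 := P.card_line (hE.cj h)
  have e : Nat.card {U : Sylow 2 K // E ≤ (U : Subgroup K)} =
      Nat.card {U : Sylow 2 K // cj h E ≤ (U : Subgroup K)} :=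
    Nat.card_congr ((MulAction.toPerm h).subtypeEquiv fun U => cj_le_smul_iff.symm)
  omega

theorem sz_eq_of_le (hD : IsLine S D) (hT : D ≤ (T : Subgroup K)) : sz T D = sz S D := by
  have h1 := P.card_line hD
  have h2 := P.card_line (P.isLine_D hD hT)
  omega

/-- The number of points, from one companion. -/
theorem card_points_aux (hD : IsLine S D) (hw : IsCentral D w) (hE : IsComp S D w E) :
    Nat.card (Sylow 2 K) = (sz S D + 1) + (sz S D + 1) * ((P.q - 1) * sz S E) := by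
  classical
  haveI := Fintype.ofFinite (Sylow 2 K)
  haveI := Fintype.ofFinite (Subgroup K)
  let α := {T : Sylow 2 K // D ≤ (T : Subgroup K)}
  let β : α → Type _ := fun T => {E : Subgroup K // IsComp T.1 D w E}
  let γ : (T : α) → β T → Type _ := fun T E => {U : Sylow 2 K // E.1 ≤ (U : Subgroup K) ∧ U ≠ T.1}
  have hoff : ∀ (T : α) (E : β T) (U : γ T E), ¬ D ≤ (U.1 : Subgroup K) := by
    intro T E U hDU
    have hDT := P.isLine_D hD T.2
    exact E.2.2.1 ((P.inf_eq E.2.1 U.2.1 U.2.2).symm.trans (P.inf_eq hDT hDU U.2.2))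
  have hbij : Function.Bijective
      (fun p : Σ T : α, Σ E : β T, γ T E =>
        (⟨p.2.2.1, hoff p.1 p.2.1 p.2.2⟩ : {b : Sylow 2 K // ¬ D ≤ (b : Subgroup K)})) := by
    constructor
    · rintro ⟨⟨T, hT⟩, ⟨E, hE⟩, ⟨U, hU⟩⟩ ⟨⟨T', hT'⟩, ⟨E', hE'⟩, ⟨U', hU'⟩⟩ h
      obtain rfl : U = U' := congrArg Subtype.val h
      have hUoff := hoff ⟨T, hT⟩ ⟨E, hE⟩ ⟨U, hU⟩
      obtain ⟨hne, -⟩ := P.exists_link (P.isLine_D hD hT) hw hUoff
      have key : ∀ (T : Sylow 2 K) (E : Subgroup K), IsComp T D w E → E ≤ (U : Subgroup K) → U ≠ T →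
          (U : Subgroup K) ⊓ ((w • U : Sylow 2 K) : Subgroup K) = E := fun T E hE hEU _ => by
        refine P.inf_eq (P.isLine_of_le hE.1 hEU) ?_ hne
        rw [← cj_eq_self hE.2.2.2]
        exact cj_le_smul_iff.2 hEU
      obtain rfl : E = E' := (key T E hE hU.1 hU.2).symm.trans (key T' E' hE' hU'.1 hU'.2)
      obtain rfl : T = T' := by
        by_contra hne'
        exact hE.2.1 ((P.inf_eq hE.1 (line_le hE'.1) (Ne.symm hne')).symm.trans
          (P.inf_eq (P.isLine_D hD hT) hT' (Ne.symm hne')))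
      rfl
    · rintro ⟨b, hb⟩
      obtain ⟨T, hT, E, hE, hEb⟩ := P.exists_proj hD hw hb
      exact ⟨⟨⟨T, hT⟩, ⟨E, hE⟩, ⟨b, hEb, fun e => hb (e ▸ hT)⟩⟩, rfl⟩
  have hγ : ∀ (T : α) (E' : β T), Nat.card (γ T E') = sz S E := by
    intro T E'
    obtain ⟨h, -, -, hTT, hEE⟩ := P.comp_conj hD hw (line_le hD) T.2 hE E'.2
    rw [P.card_line_ne E'.2.1, ← hEE, ← hTT, P.sz_cj hE.1]
  have hα : Nat.card α = sz S D + 1 := P.card_line hD
  have hoffcard : Nat.card {b : Sylow 2 K // ¬ D ≤ (b : Subgroup K)} =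
      (sz S D + 1) * ((P.q - 1) * sz S E) := by
    rw [← Nat.card_congr (Equiv.ofBijective _ hbij), Nat.card_sigma]
    have : ∀ T : α, Nat.card (Σ E : β T, γ T E) = (P.q - 1) * sz S E := fun T => by
      rw [Nat.card_sigma, Finset.sum_congr rfl fun E _ => hγ T E, Finset.sum_const, smul_eq_mul,
        Finset.card_univ, ← Nat.card_eq_fintype_card, P.card_comp (P.isLine_D hD T.2) hw]
    rw [Finset.sum_congr rfl fun T _ => this T, Finset.sum_const, smul_eq_mul, Finset.card_univ,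
      ← Nat.card_eq_fintype_card, hα]
  rw [Nat.card_congr (Equiv.sumCompl fun b : Sylow 2 K => D ≤ (b : Subgroup K)).symm, Nat.card_sum, hoffcard]
  exact congrArg (· + _) hα

/-- A companion has the same size, and the number of points follows. -/
theorem card_points (hD : IsLine S D) :
    Nat.card (Sylow 2 K) = (sz S D + 1) * (1 + (P.q - 1) * sz S D) := by
  obtain ⟨w, hw⟩ := P.exists_central hD
  obtain ⟨j, hj, hj1⟩ := P.exists_Z_ne_one S
  obtain ⟨E, hE, hjw⟩ := P.exists_comp hD hw hj hj1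
  obtain ⟨hw', hR⟩ := P.comp_central hD hw hE hj hjw
  have hD' : IsComp S E (j * w) D := P.isComp_of_R_eq hE.1 hw' hD hE.2.1.symm hR.symm
  have h1 := P.card_points_aux hD hw hE
  have h2 := P.card_points_aux hE.1 hw' hD'
  have hq := P.two_lt_q
  obtain ⟨c, hc⟩ : ∃ c, P.q = c + 3 := ⟨P.q - 3, by omega⟩
  rw [hc, show c + 3 - 1 = c + 2 by omega] at h1 h2 ⊢
  have he : sz S E = sz S D := by
    rw [h1] at h2
    nlinarith [h2]
  rw [h1, he]
  ring

/-- All lines have the same size. -/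
theorem sz_const (hD : IsLine S D) (hE : IsLine T E) : sz T E = sz S D := by
  have h1 := P.card_points hD
  have h2 := P.card_points hE
  have hq := P.two_lt_q
  obtain ⟨c, hc⟩ : ∃ c, P.q = c + 3 := ⟨P.q - 3, by omega⟩
  rw [hc, show c + 3 - 1 = c + 2 by omega] at h1 h2
  rw [h1] at h2
  have key : ∀ a b : ℕ, a < b → (a + 1) * (1 + (c + 2) * a) < (b + 1) * (1 + (c + 2) * b) := fun a b h =>
    Nat.mul_lt_mul_of_lt_of_le (by omega) (Nat.add_le_add_left (Nat.mul_le_mul_left _ h.le) 1) (by positivity)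
  rcases lt_trichotomy (sz T E) (sz S D) with h | h | h
  · exact absurd h2 (key _ _ h).ne'
  · exact h
  · exact absurd h2 (key _ _ h).ne

end Pencils

end CfsgLib.RankOneInter
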