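import Cfsg.Agent.Lib.Invol.RankOneInter.Pencil.Count
import Mathlib.LinearAlgebra.Trace

/-!
Owner: helper5. The collinearity graph of a `Pencils` is complete.

The incidence matrix product `M = N Nᵀ` satisfies `M * M = d • M + c • J`; the trace of a line involution on the
eigenspaces gives a divisibility which forces every two points to be collinear.
-/

set_option autoImplicit false
set_option linter.style.haveILetI false
set_option linter.unusedSectionVars false

namespace CfsgLib.RankOneInter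

open Subgroup

/-- The trace of an idempotent matrix is a natural number. -/
theorem exists_nat_trace {n : Type*} [Fintype n] [DecidableEq n] {E : Matrix n n ℚ} (h : E * E = E) :
    ∃ k : ℕ, E.trace = k := by
  have he : IsIdempotentElem (Matrix.toLin' E) := by
    show Matrix.toLin' E * Matrix.toLin' E = Matrix.toLin' E
    rw [Module.End.mul_eq_comp, ← Matrix.toLin'_mul, h]
  refine ⟨Module.finrank ℚ (LinearMap.range (Matrix.toLin' E)), ?_⟩
  rw [← Matrix.trace_toLin'_eq, (LinearMap.IsIdempotentElem.isProj_range _ he).trace]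

/-- The lines through a point. -/
abbrev Lines {K : Type*} [Group K] [Finite K] (S : Sylow 2 K) := {E : Subgroup K // IsLine S E}

namespace Pencils

variable {K : Type*} [Group K] [Finite K] (P : Pencils K) {S T : Sylow 2 K} {D E : Subgroup K}

include P

theorem isLine_inf {U V : Sylow 2 K} (h : U ≠ V) (hc : (U : Subgroup K) ⊓ (V : Subgroup K) ≠ ⊥) :
    IsLine U ((U : Subgroup K) ⊓ (V : Subgroup K)) := ⟨hc, V, h.symm, rfl⟩

theorem card_lines_eq (S T : Sylow 2 K) : Nat.card (Lines S) = Nat.card (Lines T) := by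
  haveI := Fact.mk Nat.prime_two
  obtain ⟨g, rfl⟩ := MulAction.exists_smul_eq K S T
  refine Nat.card_congr (Equiv.ofBijective (fun E => ⟨cj g E.1, E.2.cj g⟩) ⟨fun E E' h => ?_, fun E => ?_⟩)
  · exact Subtype.ext (map_injective (MulAut.conj g).injective (congrArg Subtype.val h))
  · refine ⟨⟨cj g⁻¹ E.1, by simpa using E.2.cj g⁻¹⟩, Subtype.ext ?_⟩
    ext x
    simp [mem_cj, mul_assoc]

/-- The points collinear with `V`, line by line. -/
noncomputable def collinearEquiv (V : Sylow 2 K) :
    {U : Sylow 2 K // U ≠ V ∧ (V : Subgroup K) ⊓ (U : Subgroup K) ≠ ⊥} ≃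
      Σ F : Lines V, {U : Sylow 2 K // F.1 ≤ (U : Subgroup K) ∧ U ≠ V} where
  toFun U := ⟨⟨_, P.isLine_inf U.2.1.symm U.2.2⟩, U.1, inf_le_right, U.2.1⟩
  invFun p := ⟨p.2.1, p.2.2.2, by rw [P.inf_eq p.1.2 p.2.2.1 p.2.2.2]; exact p.1.2.1⟩
  left_inv U := rfl
  right_inv p := by
    obtain ⟨⟨F, hF⟩, U, hU, hUV⟩ := p
    have e : (V : Subgroup K) ⊓ (U : Subgroup K) = F := P.inf_eq hF hU hUV
    subst e
    rfl

theorem card_collinear (hD : IsLine S D) (V : Sylow 2 K) :
    Nat.card {U : Sylow 2 K // U ≠ V ∧ (V : Subgroup K) ⊓ (U : Subgroup K) ≠ ⊥} =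
      Nat.card (Lines V) * sz S D := by
  haveI := Fintype.ofFinite (Lines V)
  rw [Nat.card_congr (P.collinearEquiv V), Nat.card_sigma,
    Finset.sum_congr rfl fun F _ => (P.card_line_ne F.2).trans (P.sz_const hD F.2), Finset.sum_const, smul_eq_mul,
    Finset.card_univ, ← Nat.card_eq_fintype_card]

/-- The pencils partition the lines at a point, so their number is a multiple of `q`. -/
theorem q_dvd_card_lines (S : Sylow 2 K) : P.q ∣ Nat.card (Lines S) := by
  classical
  haveI := Fintype.ofFinite (Lines S)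
  let f : Lines S → Subgroup K := fun E => R S E.1
  rw [Nat.card_eq_fintype_card, ← Finset.card_univ,
    Finset.card_eq_sum_card_image f]
  refine Finset.dvd_sum fun Rr hR => ?_
  obtain ⟨E, -, rfl⟩ := Finset.mem_image.1 hR
  have h := P.card_pencil E.2
  refine dvd_of_eq ?_
  rw [← h, ← Finset.card_map ⟨Subtype.val, Subtype.val_injective⟩]
  haveI := Fintype.ofFinite (Subgroup K)
  rw [Nat.card_eq_fintype_card, Fintype.card_subtype]
  congr 1
  ext F
  simp only [Finset.mem_map, Finset.mem_filter, Finset.mem_univ, true_and, Function.Embedding.coeFn_mk, f]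
  constructor
  · rintro ⟨hF, he⟩; exact ⟨⟨F, hF⟩, he, rfl⟩
  · rintro ⟨⟨F', hF'⟩, he, rfl⟩; exact ⟨hF', he⟩

/-- The number of points of the line of `D` collinear with `U`. -/
noncomputable def projCount (D : Subgroup K) (U : Sylow 2 K) : ℕ :=
  Nat.card {V : Sylow 2 K // D ≤ (V : Subgroup K) ∧ (U : Subgroup K) ⊓ (V : Subgroup K) ≠ ⊥}

theorem projCount_const (hD : IsLine S D) {U U' : Sylow 2 K} (hU : ¬ D ≤ (U : Subgroup K))
    (hU' : ¬ D ≤ (U' : Subgroup K)) : projCount D U = projCount D U' := by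
  obtain ⟨w, hw⟩ := P.exists_central hD
  obtain ⟨h, hh, hUU⟩ := P.off_trans hD hw hU hU'
  have hw1 := CfsgLib.Signalizer.involution_ne_one hw.2.1
  have hiff : ∀ V : Sylow 2 K, D ≤ ((h • V : Sylow 2 K) : Subgroup K) ↔ D ≤ (V : Subgroup K) := by
    intro V
    have hcw : h⁻¹ * w * h = w := by rw [mul_assoc, ← hh, inv_mul_cancel_left]
    constructor
    · intro hle
      refine P.le_of_mem hD hw.1 hw1 ?_
      have := mem_smul_iff.1 (hle hw.1)
      rwa [hcw] at this
    · intro hle
      refine P.le_of_mem hD hw.1 hw1 (mem_smul_iff.2 ?_)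
      rw [hcw]; exact hle hw.1
  refine Nat.card_congr ((MulAction.toPerm h).subtypeEquiv fun V => ?_)
  rw [MulAction.toPerm_apply, hiff, ← hUU, coe_smul_eq_cj, coe_smul_eq_cj, ← cj_inf, Ne, Ne,
    map_eq_bot_iff_of_injective _ (MulAut.conj h).injective]

/-- The lines at a point, counted through the points outside a line. -/
theorem lines_eq (hD : IsLine S D) {U : Sylow 2 K} (hU : ¬ D ≤ (U : Subgroup K)) :
    Nat.card (Lines S) = (P.q - 1) * projCount D U + 1 := by
  classical
  haveI := Fintype.ofFinite (Sylow 2 K)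
  set s := sz S D with hs
  have hs4 : 4 ≤ s := P.four_le_sz hD
  let A := fun V U : Sylow 2 K => (U : Subgroup K) ⊓ (V : Subgroup K) ≠ ⊥
  -- count the collinear pairs with one point on the line and one outside
  have hline : ∀ V : Sylow 2 K, D ≤ (V : Subgroup K) →
      (Finset.univ.filter fun U : Sylow 2 K => ¬ D ≤ (U : Subgroup K) ∧ A V U).card + s =
        Nat.card (Lines S) * s := by
    intro V hV
    rw [P.card_lines_eq S V, ← P.card_collinear hD V, Nat.card_eq_fintype_card, Fintype.card_subtype]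
    have hVD := P.isLine_of_le hD hV
    have h1 : (Finset.univ.filter fun U : Sylow 2 K => D ≤ (U : Subgroup K) ∧ U ≠ V).card = s := by
      rw [hs, ← P.sz_eq_of_le hD hV, ← P.card_line_ne hVD, Nat.card_eq_fintype_card, Fintype.card_subtype]
    rw [← h1, ← Finset.card_union_of_disjoint]
    · congr 1
      ext U
      simp only [Finset.mem_union, Finset.mem_filter, Finset.mem_univ, true_and, A]
      constructor
      · rintro (⟨hUD, hne⟩ | ⟨hUD, hne⟩)
        · exact ⟨fun e => hUD (e ▸ hV), by rwa [inf_comm]⟩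
        · refine ⟨hne, fun e => hD.1 (le_bot_iff.1 (e ▸ le_inf hV hUD))⟩
      · rintro ⟨hne, hc⟩
        by_cases hUD : D ≤ (U : Subgroup K)
        · exact Or.inr ⟨hUD, hne⟩
        · exact Or.inl ⟨hUD, by rwa [inf_comm]⟩
    · rw [Finset.disjoint_left]
      intro U h2 h3
      simp only [Finset.mem_filter] at h2 h3
      exact h2.2.1 h3.2.1
  have hcomm : ∑ V ∈ Finset.univ.filter (fun V : Sylow 2 K => D ≤ (V : Subgroup K)),
      (Finset.univ.filter fun U : Sylow 2 K => ¬ D ≤ (U : Subgroup K) ∧ A V U).card =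
      ∑ U' ∈ Finset.univ.filter (fun U' : Sylow 2 K => ¬ D ≤ (U' : Subgroup K)),
        projCount D U' := by
    simp only [projCount, Nat.card_eq_fintype_card, Fintype.card_subtype, Finset.card_eq_sum_ones,
      Finset.sum_filter]
    simp only [← Finset.sum_filter, A]
    rw [Finset.sum_comm' (s' := fun U' => Finset.univ.filter fun V : Sylow 2 K =>
      D ≤ (V : Subgroup K) ∧ (U' : Subgroup K) ⊓ (V : Subgroup K) ≠ ⊥)
      (t' := Finset.univ.filter (fun U' : Sylow 2 K => ¬ D ≤ (U' : Subgroup K)))]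
    intro V U'
    simp only [Finset.mem_filter, Finset.mem_univ, true_and]
    tauto
  have hL : ∀ V ∈ Finset.univ.filter (fun V : Sylow 2 K => D ≤ (V : Subgroup K)),
      (Finset.univ.filter fun U : Sylow 2 K => ¬ D ≤ (U : Subgroup K) ∧ A V U).card =
        (Nat.card (Lines S) - 1) * s := by
    intro V hV
    have := hline V (Finset.mem_filter.1 hV).2
    rw [Nat.sub_mul, one_mul]
    omega
  have hcl : (Finset.univ.filter fun V : Sylow 2 K => D ≤ (V : Subgroup K)).card = s + 1 := by
    rw [← P.card_line hD, Nat.card_eq_fintype_card, Fintype.card_subtype]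
  have hoff : (Finset.univ.filter fun U' : Sylow 2 K => ¬ D ≤ (U' : Subgroup K)).card =
      (s + 1) * ((P.q - 1) * s) := by
    have h1 := P.card_points hD
    rw [Nat.card_eq_fintype_card, ← Finset.card_univ,
      ← Finset.card_filter_add_card_filter_not (s := Finset.univ) (fun V : Sylow 2 K => D ≤ (V : Subgroup K)),
      hcl, Nat.mul_add, mul_one, ← hs] at h1
    omega
  rw [Finset.sum_congr rfl hL, Finset.sum_congr rfl (fun U' hU' =>
    P.projCount_const hD (Finset.mem_filter.1 hU').2 hU), Finset.sum_const, Finset.sum_const, hcl, hoff,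
    smul_eq_mul, smul_eq_mul] at hcomm
  have hpos : 1 ≤ Nat.card (Lines S) := Nat.card_pos_iff.2 ⟨⟨⟨D, hD⟩⟩, inferInstance⟩
  have key : (s + 1) * s * (Nat.card (Lines S) - 1) = (s + 1) * s * ((P.q - 1) * projCount D U) := by
    linarith [hcomm]
  have := Nat.eq_of_mul_eq_mul_left (by positivity) key
  omega

theorem all_collinear (hD : IsLine S D) {U : Sylow 2 K} (hU : ¬ D ≤ (U : Subgroup K)) :
    projCount D U = sz S D + 1 := by
  classical
  haveI := Fintype.ofFinite (Sylow 2 K)
  haveI : ∀ W : Sylow 2 K, Fintype (Lines W) := fun W => Fintype.ofFinite _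
  obtain ⟨w, hw⟩ := P.exists_central hD
  set s := sz S D with hs
  set a := projCount D U with ha
  set L := Nat.card (Lines S) with hL
  have hLa : L = (P.q - 1) * a + 1 := P.lines_eq hD hU
  have hale : a ≤ s + 1 := by
    rw [ha, projCount, hs, ← P.card_line hD, Nat.card_eq_fintype_card, Nat.card_eq_fintype_card]
    exact Fintype.card_le_of_injective (fun V => ⟨V.1, V.2.1⟩) fun V V' h => Subtype.ext (Subtype.mk.inj h)
  have hlinesV : ∀ V : Sylow 2 K, Nat.card (Lines V) = L := fun V => P.card_lines_eq V S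
  have hproj : ∀ {V : Sylow 2 K} {F : Subgroup K}, IsLine V F → ∀ W : Sylow 2 K, ¬ F ≤ (W : Subgroup K) →
      projCount F W = a := by
    intro V F hF W hW
    have h := P.lines_eq hF hW
    rw [hlinesV, hLa] at h
    exact (Nat.eq_of_mul_eq_mul_left (by have := P.two_lt_q; omega) (by omega : (P.q - 1) * a =
      (P.q - 1) * projCount F W)).symm
  let A : Sylow 2 K → Sylow 2 K → ℚ := fun U V => if (U : Subgroup K) ⊓ (V : Subgroup K) = ⊥ then 0 else 1
  let M : Matrix (Sylow 2 K) (Sylow 2 K) ℚ := Matrix.of fun U V => if U = V then (L : ℚ) else A U V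
  -- the sum of a row over a line
  have hrowline : ∀ (V : Sylow 2 K) (F : Subgroup K), IsLine V F → ∀ W : Sylow 2 K,
      ∑ X ∈ Finset.univ.filter (fun X : Sylow 2 K => F ≤ (X : Subgroup K)), M W X =
        (a : ℚ) + if F ≤ (W : Subgroup K) then ((L : ℚ) + s - a) else 0 := by
    intro V F hF W
    by_cases hW : F ≤ (W : Subgroup K)
    · rw [if_pos hW, add_sub_cancel, ← Finset.add_sum_erase _ _ (Finset.mem_filter.2 ⟨Finset.mem_univ W, hW⟩)]
      have hone : ∀ X ∈ (Finset.univ.filter (fun X : Sylow 2 K => F ≤ (X : Subgroup K))).erase W,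
          M W X = 1 := by
        intro X hX
        rw [Finset.mem_erase, Finset.mem_filter] at hX
        simp only [M, A, Matrix.of_apply, if_neg (Ne.symm hX.1)]
        rw [if_neg (show ¬ ((W : Subgroup K) ⊓ (X : Subgroup K) = ⊥) from fun e =>
          hF.1 (le_bot_iff.1 ((le_inf hW hX.2.2).trans e.le)))]
      rw [Finset.sum_congr rfl hone, Finset.sum_const, nsmul_one,
        Finset.card_erase_of_mem (Finset.mem_filter.2 ⟨Finset.mem_univ W, hW⟩), ← Fintype.card_subtype,
        ← Nat.card_eq_fintype_card, P.card_line hF, P.sz_const hD hF, Nat.add_sub_cancel, ← hs]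
      simp [M]
    · rw [if_neg hW, add_zero, ← hproj hF W hW, projCount, Nat.card_eq_fintype_card, Fintype.card_subtype,
        ← Finset.filter_filter, Finset.card_filter, Nat.cast_sum]
      refine Finset.sum_congr rfl fun X hX => ?_
      have hne : W ≠ X := fun e => hW (e ▸ (Finset.mem_filter.1 hX).2)
      simp only [M, A, Matrix.of_apply, if_neg hne]
      split_ifs <;> simp_all
  -- the entries through lines
  have hentry : ∀ X W : Sylow 2 K,
      M X W = ∑ F : Lines W, if F.1 ≤ (X : Subgroup K) then (1 : ℚ) else 0 := by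
    intro X W
    by_cases hXW : X = W
    · subst hXW
      rw [Finset.sum_congr rfl fun F _ => if_pos (line_le F.2), Finset.sum_const, nsmul_one, Finset.card_univ,
        ← Nat.card_eq_fintype_card, hlinesV]
      simp [M]
    · simp only [M, A, Matrix.of_apply, if_neg hXW]
      by_cases hc : (X : Subgroup K) ⊓ (W : Subgroup K) = ⊥
      · rw [if_pos hc, Finset.sum_eq_zero]
        intro F _
        exact if_neg fun h => F.2.1 (le_bot_iff.1 (hc ▸ le_inf h (line_le F.2)))
      · rw [if_neg hc]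
        have hF : IsLine W ((W : Subgroup K) ⊓ (X : Subgroup K)) :=
          P.isLine_inf (Ne.symm hXW) (by rwa [inf_comm])
        rw [Finset.sum_eq_single ⟨_, hF⟩]
        · rw [if_pos inf_le_right]
        · intro F _ hne
          exact if_neg fun h => hne (Subtype.ext (P.inf_eq F.2 h hXW).symm)
        · exact fun h => absurd (Finset.mem_univ _) h
  have hMM : ∀ U W, (M * M) U W = (a : ℚ) * L + ((L : ℚ) + s - a) * M U W := by
    intro U W
    rw [Matrix.mul_apply]
    simp_rw [hentry _ W, Finset.mul_sum, mul_ite, mul_one, mul_zero]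
    rw [Finset.sum_comm]
    simp_rw [← Finset.sum_filter]
    rw [Finset.sum_congr rfl fun F _ => hrowline W F.1 F.2 U, Finset.sum_add_distrib, Finset.sum_const,
      nsmul_eq_mul, Finset.card_univ, ← Nat.card_eq_fintype_card, hlinesV, mul_comm (L : ℚ)]
    refine congrArg₂ (· + ·) rfl ?_
    rw [Finset.sum_filter]
  have hrow : ∀ U, ∑ V, M U V = ((s : ℚ) + 1) * L := by
    intro U
    rw [← Finset.add_sum_erase _ _ (Finset.mem_univ U)]
    have h2 : ∑ V ∈ Finset.univ.erase U, M U V = ((L * s : ℕ) : ℚ) := by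
      rw [hs, ← hlinesV U, ← P.card_collinear hD U, Nat.card_eq_fintype_card, Fintype.card_subtype]
      have : ∀ V ∈ Finset.univ.erase U, M U V =
          if (U : Subgroup K) ⊓ (V : Subgroup K) ≠ ⊥ then 1 else 0 := by
        intro V hV
        simp only [M, A, Matrix.of_apply, if_neg (Ne.symm (Finset.mem_erase.1 hV).1), ite_not]
      rw [Finset.sum_congr rfl this, ← Finset.natCast_card_filter]
      congr 2
      ext V
      simp [and_comm]
    rw [h2]
    simp only [M, Matrix.of_apply, if_true]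
    push_cast; ring
  have hsym : ∀ U V, M U V = M V U := by
    intro U V
    by_cases h : U = V
    · subst h; rfl
    · simp only [M, A, Matrix.of_apply, if_neg h, if_neg (Ne.symm h), inf_comm]
  let J : Matrix (Sylow 2 K) (Sylow 2 K) ℚ := Matrix.of fun _ _ => 1
  set ρ : ℚ := ((s : ℚ) + 1) * L with hρ
  set n : ℚ := (Fintype.card (Sylow 2 K) : ℚ) with hn
  set d : ℚ := (L : ℚ) + s - a with hd
  have hdpos : 0 < d := by
    have h1 : (a : ℚ) ≤ (s : ℚ) + 1 := by exact_mod_cast hale
    have h2 : (2 : ℚ) ≤ L := by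
      have h2' : 2 ≤ L := by
        have hpos : 0 < L := Nat.card_pos_iff.2 ⟨⟨⟨D, hD⟩⟩, inferInstance⟩
        have h3 := Nat.le_of_dvd hpos (P.q_dvd_card_lines S)
        have := P.two_lt_q
        omega
      exact_mod_cast h2'
    linarith
  have hn0 : n ≠ 0 := by rw [hn]; exact_mod_cast Fintype.card_ne_zero
  have hMJ : M * J = ρ • J := by
    ext U V; simp [Matrix.mul_apply, J, hrow]
  have hJM : J * M = ρ • J := by
    ext U V
    simp only [Matrix.mul_apply, J, Matrix.of_apply, one_mul, Matrix.smul_apply, smul_eq_mul, mul_one]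
    rw [Finset.sum_congr rfl fun X _ => hsym X V]
    exact hrow V
  have hJJ : J * J = n • J := by
    ext U V; simp [Matrix.mul_apply, J, hn]
  have hMM' : M * M = d • M + ((a : ℚ) * L) • J := by
    ext U V
    rw [hMM]
    simp [J, hd]; ring
  have hc : (a : ℚ) * L * n = ρ * ρ - d * ρ := by
    have h1 : (M * M) * J = M * (M * J) := Matrix.mul_assoc _ _ _
    rw [hMM', hMJ, Matrix.add_mul, Matrix.smul_mul, Matrix.smul_mul, hMJ, hJJ, Matrix.mul_smul, hMJ] at h1
    have h2 := congrFun (congrFun h1 S) S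
    simp [J] at h2
    linarith
  let e : Matrix (Sylow 2 K) (Sylow 2 K) ℚ := d⁻¹ • (M - (ρ / n) • J)
  have he : e * e = e := by
    simp only [e, Matrix.smul_mul, Matrix.mul_smul, Matrix.sub_mul, Matrix.mul_sub, hMJ, hJM, hJJ, hMM',
      smul_smul, smul_sub, smul_add]
    ext U V
    simp [J]
    field_simp
    linear_combination hc
  -- the involution
  have hwsq : w * w = 1 := CfsgLib.Signalizer.involution_sq hw.2.1
  let Q : Matrix (Sylow 2 K) (Sylow 2 K) ℚ := Matrix.of fun U V => if w • U = V then 1 else 0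
  have hswap : ∀ U : Sylow 2 K, w • w • U = U := fun U => by rw [smul_smul, hwsq, one_smul]
  have hQQ : Q * Q = 1 := by
    ext U V
    rw [Matrix.mul_apply, Finset.sum_eq_single (w • U)]
    · simp [Q, hswap, Matrix.one_apply]
    · intro X _ hX; simp [Q, Ne.symm hX]
    · exact fun h => absurd (Finset.mem_univ _) h
  have hQA : ∀ B : Matrix (Sylow 2 K) (Sylow 2 K) ℚ, ∀ U V, (Q * B) U V = B (w • U) V := by
    intro B U V
    rw [Matrix.mul_apply, Finset.sum_eq_single (w • U)]
    · simp [Q]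
    · intro X _ hX; simp [Q, Ne.symm hX]
    · exact fun h => absurd (Finset.mem_univ _) h
  have hAQ : ∀ B : Matrix (Sylow 2 K) (Sylow 2 K) ℚ, ∀ U V, (B * Q) U V = B U (w • V) := by
    intro B U V
    rw [Matrix.mul_apply, Finset.sum_eq_single (w • V)]
    · simp [Q, hswap]
    · intro X _ hX
      have : ¬ w • X = V := fun e => hX (by rw [← e, hswap])
      simp [Q, this]
    · exact fun h => absurd (Finset.mem_univ _) h
  have hinv : ∀ U V, M (w • U) (w • V) = M U V := by
    intro U V
    simp only [M, A, Matrix.of_apply, smul_left_cancel_iff]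
    rw [coe_smul_eq_cj, coe_smul_eq_cj, ← cj_inf]
    have hb : ∀ B : Subgroup K, cj w B = ⊥ ↔ B = ⊥ := fun B =>
      map_eq_bot_iff_of_injective _ (MulAut.conj w).injective
    simp only [hb]
  have hQe : Q * e = e * Q := by
    ext U V
    rw [hQA, hAQ]
    simp only [e, J, Matrix.smul_apply, Matrix.sub_apply, Matrix.of_apply]
    rw [← hinv U (w • V), hswap]
  have hF : ((2 : ℚ)⁻¹ • (1 + Q)) * ((2 : ℚ)⁻¹ • (1 + Q)) = (2 : ℚ)⁻¹ • (1 + Q) := by
    rw [Matrix.smul_mul, Matrix.mul_smul, smul_smul, Matrix.add_mul, Matrix.mul_add, Matrix.mul_add, hQQ,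
      one_mul, one_mul, mul_one]
    ext U V; simp; ring
  obtain ⟨k₁, hk₁⟩ := exists_nat_trace he
  have hfe : ((2 : ℚ)⁻¹ • (1 + Q)) * e * (((2 : ℚ)⁻¹ • (1 + Q)) * e) = ((2 : ℚ)⁻¹ • (1 + Q)) * e := by
    have hc2 : e * ((2 : ℚ)⁻¹ • (1 + Q)) = ((2 : ℚ)⁻¹ • (1 + Q)) * e :=
      (((Commute.one_right e).add_right (hQe.symm : Commute e Q)).smul_right _).eq
    rw [mul_assoc, ← mul_assoc e, hc2, mul_assoc _ e e, he, ← mul_assoc, hF]
  obtain ⟨k₂, hk₂⟩ := exists_nat_trace hfe
  have hQtr : (Q * e).trace = 2 * (k₂ : ℚ) - k₁ := by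
    rw [← hk₁, ← hk₂, Matrix.smul_mul, Matrix.trace_smul, Matrix.add_mul, Matrix.trace_add, one_mul,
      smul_eq_mul]
    ring
  -- the trace
  have hN : Nat.card (Sylow 2 K) = (s + 1) * (1 + (P.q - 1) * s) := P.card_points hD
  have hdiag : ∀ U : Sylow 2 K, M (w • U) U = if D ≤ (U : Subgroup K) then (L : ℚ) else 1 := by
    intro U
    by_cases hUD : D ≤ (U : Subgroup K)
    · rw [if_pos hUD, smul_sylow_of_mem (hUD hw.1)]
      simp [M]
    · obtain ⟨h1, h2⟩ := P.exists_link hD hw hUD
      rw [if_neg hUD]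
      simp only [M, A, Matrix.of_apply, if_neg h1, inf_comm]
      rw [if_neg h2]
  have hcl : (Finset.univ.filter fun V : Sylow 2 K => D ≤ (V : Subgroup K)).card = s + 1 := by
    rw [← P.card_line hD, Nat.card_eq_fintype_card, Fintype.card_subtype]
  have hoff : (Finset.univ.filter fun V : Sylow 2 K => ¬ D ≤ (V : Subgroup K)).card =
      (s + 1) * ((P.q - 1) * s) := by
    have h1 := hN
    rw [Nat.card_eq_fintype_card, ← Finset.card_univ,
      ← Finset.card_filter_add_card_filter_not (s := Finset.univ) (fun V : Sylow 2 K => D ≤ (V : Subgroup K)),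
      hcl, Nat.mul_add, mul_one] at h1
    omega
  have hQtr' : d * (Q * e).trace = (((s + 1) * ((P.q - 1) * s) : ℕ) : ℚ) := by
    simp only [Matrix.trace, Matrix.diag, hQA, e, J, Matrix.smul_apply, Matrix.sub_apply, Matrix.of_apply,
      smul_eq_mul, Finset.mul_sum]
    simp_rw [← mul_assoc, mul_inv_cancel₀ hdpos.ne', one_mul, hdiag]
    rw [Finset.sum_sub_distrib, Finset.sum_const, nsmul_eq_mul, Finset.card_univ, Finset.sum_ite,
      Finset.sum_const, Finset.sum_const, hcl, hoff, nsmul_eq_mul, nsmul_eq_mul, mul_one, mul_one, ← hn,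
      mul_div_cancel₀ _ hn0, hρ]
    push_cast; ring
  have hdvd : ((L : ℤ) + s - a) ∣ (((s + 1) * ((P.q - 1) * s) : ℕ) : ℤ) := by
    refine ⟨2 * (k₂ : ℤ) - k₁, ?_⟩
    rw [hQtr, hd] at hQtr'
    exact_mod_cast hQtr'.symm
  -- arithmetic
  obtain ⟨n₀, hn₀, hq⟩ := P.q_pow
  obtain ⟨e₁, he₁⟩ := P.q_dvd_sz hD
  rw [← hs] at he₁
  obtain ⟨e₂, he₂⟩ := P.q_dvd_card_lines S
  rw [← hL] at he₂
  obtain ⟨c, hc'⟩ : ∃ c, P.q = c + 3 := ⟨P.q - 3, by have := P.two_lt_q; omega⟩
  obtain ⟨dd, hdd⟩ : ∃ dd : ℕ, (L : ℤ) + s - a = dd := ⟨L + s - a, by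
    have h1 : a ≤ L + s := by
      have : 1 ≤ L := Nat.card_pos_iff.2 ⟨⟨⟨D, hD⟩⟩, inferInstance⟩
      omega
    omega⟩
  rw [hdd] at hdvd
  have hdvd' : dd ∣ (s + 1) * ((P.q - 1) * s) := Int.natCast_dvd_natCast.1 hdvd
  have hddf : dd = s + 1 + (c + 1) * a := by
    rw [hLa, hc', show c + 3 - 1 = c + 2 by omega] at hdd
    push_cast at hdd
    have : (dd : ℤ) = ((s + 1 + (c + 1) * a : ℕ) : ℤ) := by push_cast; linarith
    exact_mod_cast this
  have hcop : Nat.Coprime dd s := by
    obtain ⟨k, hk⟩ : ∃ k, s = 2 ^ k := by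
      haveI := Fact.mk Nat.prime_two
      exact (IsPGroup.to_le (S.isPGroup') (R_le : R S D ≤ _)).index (D.subgroupOf (R S D))
    rw [hk]
    refine Nat.Coprime.pow_right k (Nat.coprime_two_right.2 ?_)
    have hsE : Even s := by
      rw [he₁, hq]; exact (Nat.even_pow.2 ⟨even_two, by omega⟩).mul_right _
    have hLE : Even L := by
      rw [he₂, hq]; exact (Nat.even_pow.2 ⟨even_two, by omega⟩).mul_right _
    have hcE : ¬ Even (c + 2) := by
      have h1 : Even P.q := hq ▸ Nat.even_pow.2 ⟨even_two, by omega⟩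
      rw [hc', show c + 3 = c + 2 + 1 by omega, Nat.even_add_one] at h1
      exact h1
    rw [hLa, hc', show c + 3 - 1 = c + 2 by omega, Nat.even_add_one, Nat.even_mul] at hLE
    rw [hddf, ← Nat.not_even_iff_odd, Nat.even_add, Nat.even_add_one, Nat.even_mul]
    have hc1 : Even (c + 1) := by
      rw [show c + 2 = c + 1 + 1 by omega, Nat.even_add_one, not_not] at hcE
      exact hcE
    tauto
  rw [hc', show c + 3 - 1 = c + 2 by omega, ← mul_assoc] at hdvd'
  obtain ⟨k, hk⟩ := hcop.dvd_of_dvd_mul_right hdvd'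
  rw [hddf] at hk
  have hk1 : k < c + 2 := by
    by_contra hge
    have ha0 : a ≠ 0 := by
      intro h0
      rw [h0, mul_zero, zero_add] at hLa
      rw [hLa] at he₂
      have h1 := Nat.eq_one_of_mul_eq_one_right he₂.symm
      omega
    have h1 : (s + 1 + (c + 1) * a) * (c + 2) ≤ (s + 1 + (c + 1) * a) * k :=
      Nat.mul_le_mul_left _ (not_lt.1 hge)
    have h2 : 0 < (c + 1) * a := Nat.mul_pos (by omega) (Nat.pos_of_ne_zero ha0)
    nlinarith [h1, h2, hk]
  -- modulo `q` the quotient is one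
  have key : ((s : ℤ) + 1) * (c + 2) = ((s : ℤ) + 1 + (c + 1) * a) * k := by exact_mod_cast hk
  have hk_mod : ((c : ℤ) + 3) ∣ ((k : ℤ) - 1) := by
    have hs0 : ((c : ℤ) + 3) ∣ (s : ℤ) := ⟨e₁, by rw [he₁, hc']; push_cast; ring⟩
    have ha1 : ((c : ℤ) + 3) ∣ ((a : ℤ) - 1) := by
      have h1 : ((c + 2) * a + 1 : ℕ) = (c + 3) * e₂ := by
        rw [← hc', ← he₂, hLa, hc', show c + 3 - 1 = c + 2 by omega]
      have h2 : ((c : ℤ) + 2) * a + 1 = ((c : ℤ) + 3) * e₂ := by exact_mod_cast h1
      exact ⟨(a : ℤ) - e₂, by linarith⟩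
    obtain ⟨u₁, hu₁⟩ := hs0
    obtain ⟨u₂, hu₂⟩ := ha1
    refine ⟨u₁ * k + k + (c + 1) * u₂ * k - u₁ * (c + 2) - 1, ?_⟩
    have hsu : (s : ℤ) = (c + 3) * u₁ := hu₁
    have hau : (a : ℤ) = (c + 3) * u₂ + 1 := by linarith
    rw [hsu, hau] at key
    linear_combination key
  have hk_one : k = 1 := by
    obtain ⟨m, hm⟩ := hk_mod
    have h1 : ((k : ℤ)) < c + 2 := by exact_mod_cast hk1
    rcases lt_trichotomy m 0 with hm0 | hm0 | hm0
    · nlinarith
    · subst hm0; omega
    · nlinarith
  rw [hk_one, Nat.cast_one, mul_one] at key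
  have h3 : ((c : ℤ) + 1) * a = ((c : ℤ) + 1) * ((s : ℤ) + 1) := by linarith
  have h4 : (a : ℤ) = s + 1 := mul_left_cancel₀ (by omega) h3
  exact_mod_cast h4

/-- **Every two points are collinear.** -/
theorem inf_ne_bot (hD : IsLine S D) {U V : Sylow 2 K} (hUV : U ≠ V) :
    (U : Subgroup K) ⊓ (V : Subgroup K) ≠ ⊥ := by
  classical
  haveI := Fact.mk Nat.prime_two
  haveI := Fintype.ofFinite (Sylow 2 K)
  obtain ⟨g, rfl⟩ := MulAction.exists_smul_eq K S U
  have hF := hD.cj g
  by_cases hV : cj g D ≤ (V : Subgroup K)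
  · exact fun e => hF.1 (le_bot_iff.1 (e ▸ le_inf (line_le hF) hV))
  intro e
  have h := P.all_collinear hF hV
  rw [← P.card_line hF, projCount, Nat.card_eq_fintype_card, Nat.card_eq_fintype_card, Fintype.card_subtype,
    Fintype.card_subtype] at h
  have h1 := Finset.eq_of_subset_of_card_le (by
    intro X hX
    simp only [Finset.mem_filter] at hX ⊢
    exact ⟨hX.1, hX.2.1⟩) h.ge
  have h2 : g • S ∈ Finset.univ.filter (fun X : Sylow 2 K => cj g D ≤ (X : Subgroup K)) :=
    Finset.mem_filter.2 ⟨Finset.mem_univ _, line_le hF⟩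
  rw [← h1, Finset.mem_filter] at h2
  exact h2.2.2 (by rwa [inf_comm])

theorem card_lines (hD : IsLine S D) : Nat.card (Lines S) = P.q + (P.q - 1) * sz S D := by
  obtain ⟨b, hb⟩ : ∃ b : Sylow 2 K, ¬ D ≤ (b : Subgroup K) := by
    by_contra hall
    push Not at hall
    exact hD.1 ((eq_bot_iff_forall _).2 fun x hx => P.core x fun U => hall U hx)
  have := P.two_lt_q
  rw [P.lines_eq hD hb, P.all_collinear hD hb, Nat.mul_add, mul_one]
  omega

end Pencils

end CfsgLib.RankOneInter
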