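import Cfsg.Agent.Lib.Invol.RankOneInter.Pencil.Setting

/-!
Owner: helper5. One line in a `Pencils`: its size, and the lines meeting it that its central involution stabilises.

* `card_line`: a line has `sz S D + 1` points, `q ∣ sz S D`.
* `exists_proj`: a point outside lies on a line stabilised by `w` through exactly one point of the line.
* `IsComp`: such a line (a companion); it has a central involution `j * w` with `j` in `Z S`, and the same `R`.
-/

set_option autoImplicit false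
set_option linter.style.haveILetI false
set_option linter.unusedSectionVars false

namespace CfsgLib.RankOneInter

open Subgroup

variable {K : Type*} [Group K]

/-- The conjugate subgroup `g D g⁻¹`. -/
abbrev cj (g : K) (D : Subgroup K) : Subgroup K := D.map (MulAut.conj g).toMonoidHom

theorem mem_cj {g x : K} {D : Subgroup K} : x ∈ cj g D ↔ g⁻¹ * x * g ∈ D :=
  Bender.mem_map_conj

theorem conj_mem_cj {g x : K} {D : Subgroup K} (hx : x ∈ D) : g * x * g⁻¹ ∈ cj g D :=
  Bender.conj_mem_map_conj hx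

theorem coe_smul_eq_cj (g : K) (S : Sylow 2 K) :
    ((g • S : Sylow 2 K) : Subgroup K) = cj g (S : Subgroup K) := by
  ext x; rw [mem_smul_iff, mem_cj]

theorem cj_inf (g : K) (A B : Subgroup K) : cj g (A ⊓ B) = cj g A ⊓ cj g B := by
  ext x; simp only [mem_cj, mem_inf]

theorem cj_le_smul_iff {g : K} {D : Subgroup K} {S : Sylow 2 K} :
    cj g D ≤ ((g • S : Sylow 2 K) : Subgroup K) ↔ D ≤ (S : Subgroup K) := by
  rw [coe_smul_eq_cj, map_le_map_iff_of_injective (MulAut.conj g).injective]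

theorem cj_eq_self {g : K} {D : Subgroup K} (h : g ∈ normalizer (D : Set K)) : cj g D = D :=
  Bender.map_conj_eq_of_mem_normalizer h

variable [Finite K]

theorem IsLine.cj {S : Sylow 2 K} {D : Subgroup K} (h : IsLine S D) (g : K) : IsLine (g • S) (cj g D) := by
  obtain ⟨hne, T, hTS, rfl⟩ := h
  refine ⟨fun e => hne ?_, g • T, fun e => hTS (MulAction.injective g e), by
    rw [cj_inf, coe_smul_eq_cj, coe_smul_eq_cj]⟩
  rwa [map_eq_bot_iff_of_injective _ (MulAut.conj g).injective] at e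

/-- The size of a line minus one. -/
noncomputable def sz (S : Sylow 2 K) (D : Subgroup K) : ℕ := D.relIndex (R S D)

/-- A line through `S` stabilised by `w`, other than the line of `D`. -/
def IsComp (S : Sylow 2 K) (D : Subgroup K) (w : K) (E : Subgroup K) : Prop :=
  IsLine S E ∧ E ≠ D ∧ w ∈ R S E

namespace Pencils

variable (P : Pencils K) {S T : Sylow 2 K} {D E : Subgroup K} {w : K}

include P

theorem two_lt_q : 2 < P.q := by
  obtain ⟨n, hn, hq⟩ := P.q_pow
  have : 2 ^ 2 ≤ P.q := hq ▸ Nat.pow_le_pow_right two_pos hn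
  omega

theorem lineFacts (hD : IsLine S D) (hT : D ≤ (T : Subgroup K)) (hTS : T ≠ S) : LineFacts P.Z P.q S T D := by
  have e := P.inf_eq hD hT hTS
  exact e ▸ P.line S T hTS (e.symm ▸ hD.1)

theorem mem_line_iff (hD : IsLine S D) {U : Sylow 2 K} :
    D ≤ (U : Subgroup K) ∧ U ≠ S ↔ ∃ T : Sylow 2 K, T ≠ S ∧ D ≤ (T : Subgroup K) ∧ ∃ x ∈ R S D, x • T = U := by
  constructor
  · rintro ⟨hU, hUS⟩
    exact ⟨U, hUS, hU, 1, one_mem _, one_smul _ _⟩
  · rintro ⟨T, hTS, hT, x, hx, rfl⟩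
    refine ⟨?_, fun e => hTS (MulAction.injective x (e.trans (smul_sylow_of_mem hx.1).symm))⟩
    rw [← cj_eq_self hx.2]
    exact cj_le_smul_iff.2 hT

/-- The number of points of a line. -/
theorem card_line (hD : IsLine S D) : Nat.card {U : Sylow 2 K // D ≤ (U : Subgroup K)} = sz S D + 1 := by
  classical
  obtain ⟨hne, T, hTS, hDT⟩ := hD
  have hD : IsLine S D := ⟨hne, T, hTS, hDT⟩
  have hT : D ≤ (T : Subgroup K) := hDT.le.trans inf_le_right
  have horb : MulAction.orbit (R S D) T = {U : Sylow 2 K | D ≤ (U : Subgroup K) ∧ U ≠ S} := by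
    ext U
    constructor
    · rintro ⟨⟨x, hx⟩, rfl⟩
      exact (P.mem_line_iff hD).2 ⟨T, hTS, hT, x, hx, rfl⟩
    · rintro ⟨hU, hUS⟩
      obtain ⟨x, hx, hxU⟩ := (P.lineFacts hD hT hTS).trans U hU hUS
      exact ⟨⟨x, hx⟩, hxU⟩
  have hstab : MulAction.stabilizer (R S D) T = D.subgroupOf (R S D) := by
    ext ⟨x, hx⟩
    rw [MulAction.mem_stabilizer_iff, mem_subgroupOf]
    refine ⟨fun h => ?_, fun h => smul_sylow_of_mem (hT h)⟩
    exact hDT.symm.le ⟨hx.1, mem_of_smul_eq hx.1 h⟩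
  have h1 : sz S D = Nat.card {U : Sylow 2 K // D ≤ (U : Subgroup K) ∧ U ≠ S} := by
    rw [sz, relIndex, ← hstab, MulAction.index_stabilizer, horb]
    rfl
  haveI := Fintype.ofFinite (Sylow 2 K)
  rw [h1, Nat.card_eq_fintype_card, Nat.card_eq_fintype_card, Fintype.card_subtype, Fintype.card_subtype,
    ← Finset.card_insert_of_notMem (a := S) (by simp)]
  congr 1
  ext U
  simp only [Finset.mem_filter, Finset.mem_univ, true_and, Finset.mem_insert]
  exact ⟨fun h => (em (U = S)).imp id fun hne => ⟨h, hne⟩,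
    fun h => h.elim (fun e => e ▸ line_le hD) And.left⟩

theorem q_dvd_sz (hD : IsLine S D) : P.q ∣ sz S D := by
  haveI := Fact.mk Nat.prime_two
  have hp : IsPGroup 2 (R S D) := S.isPGroup'.to_le R_le
  obtain ⟨k, hk⟩ := hp.index (D.subgroupOf (R S D))
  obtain ⟨n, -, hn⟩ := P.q_pow
  have hle : P.q ≤ sz S D := by
    rw [← P.card_Z S, sz, relIndex, Subgroup.index]
    refine Nat.card_le_card_of_injective (fun z => QuotientGroup.mk ⟨(z : K), P.Z_le_R hD z.2⟩) fun a b h => ?_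
    have h1 : (a : K)⁻¹ * (b : K) ∈ D := by
      have := QuotientGroup.eq.1 h
      rwa [mem_subgroupOf] at this
    exact Subtype.ext (inv_mul_eq_one.1 (P.eq_one_of_Z_line hD (mul_mem (inv_mem a.2) b.2) h1))
  show P.q ∣ (D.subgroupOf (R S D)).index
  change P.q ≤ (D.subgroupOf (R S D)).index at hle
  rw [hk, hn] at hle ⊢
  exact pow_dvd_pow 2 ((Nat.pow_le_pow_iff_right one_lt_two).1 hle)

theorem four_le_sz (hD : IsLine S D) : 4 ≤ sz S D := by
  obtain ⟨n, hn, hq⟩ := P.q_pow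
  have h := Nat.le_of_dvd (Nat.pos_of_ne_zero (by
    show (D.subgroupOf (R S D)).index ≠ 0
    exact index_ne_zero_of_finite)) (P.q_dvd_sz hD)
  exact le_trans (hq ▸ Nat.pow_le_pow_right two_pos hn) h

theorem exists_third (hD : IsLine S D) : ∃ U : Sylow 2 K, D ≤ (U : Subgroup K) ∧ U ≠ S ∧ U ≠ T := by
  classical
  by_contra hno
  push Not at hno
  have h : Nat.card {U : Sylow 2 K // D ≤ (U : Subgroup K)} ≤ 2 := by
    haveI := Fintype.ofFinite (Sylow 2 K)
    rw [Nat.card_eq_fintype_card, Fintype.card_subtype]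
    refine le_trans (Finset.card_le_card (t := {S, T}) fun U hU => ?_) Finset.card_le_two
    simp only [Finset.mem_filter, Finset.mem_univ, true_and] at hU
    simp only [Finset.mem_insert, Finset.mem_singleton]
    exact (em (U = S)).imp id fun h => hno U hU h
  rw [P.card_line hD] at h
  have := P.four_le_sz hD
  omega

/-- The group of the line fixing `w` is transitive on its points. -/
theorem exists_move (hD : IsLine S D) (hw : IsCentral D w) (hT : D ≤ (T : Subgroup K)) :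
    ∃ h : K, h * w = w * h ∧ h ∈ normalizer (D : Set K) ∧ h • S = T := by
  rcases eq_or_ne T S with rfl | hTS
  · exact ⟨1, by simp, one_mem _, one_smul _ _⟩
  obtain ⟨U, hU, hUS, hUT⟩ := P.exists_third (T := T) hD
  have hDU := P.isLine_of_le hD hU
  obtain ⟨x, hx, hxT⟩ := (P.lineFacts hDU (line_le hD) hUS.symm).trans T hT hUT.symm
  exact ⟨x, P.isLine_cent hDU hw.1 hw.2.2 hx, hx.2, hxT⟩

/-- Outside points project to the line. -/
theorem exists_proj (hD : IsLine S D) (hw : IsCentral D w) {b : Sylow 2 K} (hb : ¬ D ≤ (b : Subgroup K)) :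
    ∃ T : Sylow 2 K, D ≤ (T : Subgroup K) ∧ ∃ E, IsComp T D w E ∧ E ≤ (b : Subgroup K) := by
  classical
  haveI := Fact.mk Nat.prime_two
  obtain ⟨hne, hbne⟩ := P.exists_link hD hw hb
  set E := (b : Subgroup K) ⊓ ((w • b : Sylow 2 K) : Subgroup K) with hE
  have hbE : IsLine b E := ⟨hbne, w • b, hne, rfl⟩
  have hwinv := CfsgLib.Signalizer.involution_inv hw.2.1
  have hww : w • w • b = b := by
    rw [smul_smul, CfsgLib.Signalizer.involution_sq hw.2.1, one_smul]
  have hswap : cj w E = E := by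
    rw [hE, cj_inf, ← coe_smul_eq_cj, ← coe_smul_eq_cj, hww, inf_comm]
  have hwN : w ∈ normalizer (E : Set K) := Bender.mem_normalizer_of_map_conj_eq hswap
  -- `w` acts on the line of `E`, of odd size
  let X := {U : Sylow 2 K // E ≤ (U : Subgroup K)}
  have hpres : ∀ g ∈ zpowers w, ∀ U : Sylow 2 K, E ≤ (U : Subgroup K) →
      E ≤ ((g • U : Sylow 2 K) : Subgroup K) := fun g hg U hU => by
    rw [← cj_eq_self ((zpowers_le.2 hwN) hg)]
    exact cj_le_smul_iff.2 hU
  letI : MulAction (zpowers w) X :=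
    { smul := fun g U => ⟨(g : K) • U.1, hpres g g.2 U.1 U.2⟩
      one_smul := fun U => Subtype.ext (one_smul K U.1)
      mul_smul := fun g h U => Subtype.ext (mul_smul (g : K) (h : K) U.1) }
  have hp : IsPGroup 2 (zpowers w) :=
    IsPGroup.of_card (n := 1) (by rw [Nat.card_zpowers, hw.2.1, pow_one])
  obtain ⟨n, hn, hq⟩ := P.q_pow
  have hodd : ¬ 2 ∣ Nat.card X := by
    rw [P.card_line hbE]
    have h2 : 2 ∣ sz b E := (dvd_pow_self 2 (by omega : n ≠ 0)).trans (hq ▸ P.q_dvd_sz hbE)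
    omega
  obtain ⟨⟨T, hT⟩, hfix⟩ := hp.nonempty_fixed_point_of_prime_not_dvd_card X hodd
  have hwT' : w • T = T := congrArg Subtype.val (hfix ⟨w, mem_zpowers w⟩)
  have hwT : w ∈ (T : Subgroup K) := mem_of_smul_eq (line_le hD hw.1) hwT'
  have hDT : D ≤ (T : Subgroup K) :=
    P.le_of_mem hD hw.1 (CfsgLib.Signalizer.involution_ne_one hw.2.1) hwT
  refine ⟨T, hDT, E, ⟨P.isLine_of_le hbE hT, fun e => hb (e ▸ inf_le_left), hwT, hwN⟩, inf_le_left⟩

theorem isLine_D (hD : IsLine S D) (hT : D ≤ (T : Subgroup K)) : IsLine T D := P.isLine_of_le hD hT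

/-- A companion contains `j * w` for some `j` in `Z`. -/
theorem exists_form (hD : IsLine S D) (hw : IsCentral D w) (hE : IsComp S D w E) :
    ∃ j ∈ P.Z S, j ≠ 1 ∧ j * w ∈ E ∧ j * w ≠ 1 := by
  obtain ⟨hne, T, hTS, hET⟩ := hE.1
  have hT : E ≤ (T : Subgroup K) := hET.le.trans inf_le_right
  obtain ⟨j, hj, d, hd, e⟩ := (P.lineFacts hE.1 hT hTS).sq_mem w hE.2.2
    (by rw [CfsgLib.Signalizer.involution_sq hw.2.1]; exact one_mem _)
  have hjw : j * w = d := by rw [e, ← mul_assoc, P.Z_sq S j hj, one_mul]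
  have hw1 := CfsgLib.Signalizer.involution_ne_one hw.2.1
  have hj1 : j ≠ 1 := by
    rintro rfl
    rw [one_mul] at hjw
    exact hE.2.1 (P.eq_of_common hD hE.1 hw.1 (hjw ▸ hd) hw1).symm
  refine ⟨j, hj, hj1, hjw ▸ hd, fun h => hj1 (P.eq_one_of_Z_line hD hj ?_)⟩
  rw [eq_inv_of_mul_eq_one_left h]
  exact inv_mem hw.1

theorem form_unique (hE : IsLine S E) {j j' : K} (hj : j ∈ P.Z S) (hj' : j' ∈ P.Z S)
    (h : j * w ∈ E) (h' : j' * w ∈ E) : j = j' := by
  have h1 := mul_mem h (inv_mem h')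
  rw [mul_inv_rev, mul_assoc, mul_inv_cancel_left] at h1
  exact mul_inv_eq_one.1 (P.eq_one_of_Z_line hE (mul_mem hj (inv_mem hj')) h1)

theorem isComp_conj {h : K} (hE : IsComp S D w E) (hh : h * w = w * h) (hn : h ∈ normalizer (D : Set K)) :
    IsComp (h • S) D w (cj h E) := by
  refine ⟨hE.1.cj h, fun e => hE.2.1 ?_, ?_, ?_⟩
  · rw [← cj_eq_self hn] at e
    exact map_injective (MulAut.conj h).injective e
  · refine mem_smul_iff.2 ?_
    rw [mul_assoc, ← hh, inv_mul_cancel_left]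
    exact hE.2.2.1
  · refine Bender.mem_normalizer_of_map_conj_eq ?_
    ext x
    rw [← cj, mem_cj, mem_cj, mem_cj]
    have hi : w⁻¹ * h = h * w⁻¹ := by
      rw [inv_mul_eq_iff_eq_mul, ← mul_assoc, ← hh, mul_inv_cancel_right]
    have h2 : h⁻¹ * w⁻¹ = w⁻¹ * h⁻¹ := by
      rw [← mul_inv_rev, ← mul_inv_rev, hh]
    have key : h⁻¹ * (w⁻¹ * x * w) * h = w⁻¹ * (h⁻¹ * x * h) * w := by
      calc h⁻¹ * (w⁻¹ * x * w) * h = (h⁻¹ * w⁻¹) * x * (w * h) := by group
        _ = (w⁻¹ * h⁻¹) * x * (h * w) := by rw [h2, hh]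
        _ = _ := by group
    rw [key]
    exact ((mem_normalizer_iff''.1 hE.2.2.2) _).symm

/-- For each `j` there is a companion containing `j * w`. -/
theorem exists_comp (hD : IsLine S D) (hw : IsCentral D w) {j : K} (hj : j ∈ P.Z S) (hj1 : j ≠ 1) :
    ∃ E, IsComp S D w E ∧ j * w ∈ E := by
  -- some point is off the line
  obtain ⟨b, hb⟩ : ∃ b : Sylow 2 K, ¬ D ≤ (b : Subgroup K) := by
    by_contra hall
    push Not at hall
    exact hD.1 ((eq_bot_iff_forall _).2 fun x hx => P.core x fun U => hall U hx)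
  obtain ⟨T, hT, E₀, hE₀, -⟩ := P.exists_proj hD hw hb
  obtain ⟨h, hh, hn, hTS⟩ := P.exists_move (P.isLine_D hD hT) hw (line_le hD)
  have hE₁ := P.isComp_conj hE₀ hh hn
  rw [hTS] at hE₁
  obtain ⟨i, hi, hi1, hiw, -⟩ := P.exists_form hD hw hE₁
  obtain ⟨hne, U, hUS, hDU⟩ := hD
  have hD : IsLine S D := ⟨hne, U, hUS, hDU⟩
  obtain ⟨g, -, hgS, -, hgD, hgt, -⟩ := (P.lineFacts hD (hDU.le.trans inf_le_right) hUS).torus
  obtain ⟨n, hn'⟩ := hgt i hi j hj hi1 hj1
  have hc : ∀ d ∈ D, g ^ n * d = d * g ^ n := fun d hd => ((show Commute g d from hgD d hd).pow_left n).eq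
  have hgn : g ^ n • S = S := by
    have hm : ∀ m : ℕ, g ^ m • S = S := fun m => by
      induction m with
      | zero => rw [pow_zero, one_smul]
      | succ m ih => rw [pow_succ, mul_smul, hgS, ih]
    exact hm n
  have hE₂ := P.isComp_conj hE₁ (hc w hw.1) (mem_normalizer_iff.2 fun x => by
    constructor
    · intro hx; rwa [hc x hx, mul_inv_cancel_right]
    · intro hx
      have h2 := hc _ hx
      rw [inv_mul_cancel_right] at h2
      rwa [show x = g ^ n * x * (g ^ n)⁻¹ from mul_left_cancel h2.symm])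
  rw [hgn] at hE₂
  refine ⟨_, hE₂, ?_⟩
  rw [mem_cj, ← hn']
  convert hiw using 1
  calc (g ^ n)⁻¹ * (g ^ n * i * (g ^ n)⁻¹ * w) * g ^ n = i * ((g ^ n)⁻¹ * (w * g ^ n)) := by group
    _ = i * w := by rw [← hc w hw.1, inv_mul_cancel_left]

/-- The companion's involution is central in it, and the companion has the same `R`. -/
theorem comp_central (hD : IsLine S D) (hw : IsCentral D w) (hE : IsComp S D w E) {j : K} (hj : j ∈ P.Z S)
    (hjw : j * w ∈ E) : IsCentral E (j * w) ∧ R S E = R S D := by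
  have hw2 := CfsgLib.Signalizer.involution_sq hw.2.1
  have hwS : w ∈ (S : Subgroup K) := line_le hD hw.1
  have hjS : j ∈ (S : Subgroup K) := P.Z_le S hj
  have hjc : w * j = j * w := P.Z_central S j hj w hwS
  have hjj := P.Z_sq S j hj
  set d := j * w with hd
  have hd2 : d * d = 1 := by
    rw [hd, mul_assoc, ← mul_assoc w j w, hjc, mul_assoc j w w, hw2, mul_one, hjj]
  have hd1 : d ≠ 1 := by
    intro h
    obtain ⟨i, hi, -, hiw, hiw1⟩ := P.exists_form hD hw hE
    exact hiw1 (by rw [P.form_unique hE.1 hi hj hiw hjw, ← hd, h])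
  -- `d` and `w` have the same centraliser in `S`
  have hcd : ∀ x ∈ (S : Subgroup K), (x * d = d * x ↔ x * w = w * x) := by
    intro x hx
    have hxj : x * j = j * x := P.Z_central S j hj x hx
    rw [hd, ← mul_assoc, hxj, mul_assoc, mul_assoc, mul_right_inj]
  obtain ⟨c, hc⟩ := P.exists_central hE.1
  have hcS : c ∈ (S : Subgroup K) := line_le hE.1 hc.1
  have hcw : c * w = w * c := (hcd c hcS).1 (hc.2.2 d hjw).symm
  have hcR : c ∈ R S D := (P.centralizer_eq hD hw).2 ⟨hcS, hcw⟩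
  obtain ⟨hne, U, hUS, hDU⟩ := hD
  have hD : IsLine S D := ⟨hne, U, hUS, hDU⟩
  obtain ⟨j', hj', d', hd', e⟩ := (P.lineFacts hD (hDU.le.trans inf_le_right) hUS).sq_mem c hcR
    (by rw [CfsgLib.Signalizer.involution_sq hc.2.1]; exact one_mem _)
  have hd'1 : d' ≠ 1 := by
    rintro rfl
    rw [mul_one] at e
    exact CfsgLib.Signalizer.involution_ne_one hc.2.1 (P.eq_one_of_Z_line hE.1 (e ▸ hj') hc.1)
  have hle : R S E ≤ R S D := by
    intro x hx
    have h1 : x * c = c * x := P.isLine_cent hE.1 hc.1 hc.2.2 hx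
    have h2 : x * j' = j' * x := P.Z_central S j' hj' x hx.1
    refine P.mem_R_of_commute hD hd' hd'1 hx.1 ?_
    rw [e, ← mul_assoc, h2, mul_assoc, mul_assoc, mul_right_inj] at h1
    exact h1
  have hdcent : ∀ x ∈ E, x * d = d * x := fun x hx =>
    (hcd x (line_le hE.1 hx)).2 (P.isLine_cent hD hw.1 hw.2.2 (hle (le_R hE.1 hx)))
  refine ⟨⟨hjw, CfsgLib.Signalizer.orderOf_eq_two_of hd1 hd2, hdcent⟩, le_antisymm hle fun x hx => ?_⟩
  exact P.mem_R_of_commute hE.1 hjw hd1 hx.1 ((hcd x hx.1).2 (P.isLine_cent hD hw.1 hw.2.2 hx))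

/-- A line with the same `R` is a companion. -/
theorem isComp_of_R_eq (hD : IsLine S D) (hw : IsCentral D w) (hE : IsLine S E) (hne : E ≠ D)
    (hR : R S E = R S D) : IsComp S D w E :=
  ⟨hE, hne, hR.symm ▸ le_R hD hw.1⟩

end Pencils

end CfsgLib.RankOneInter
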