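import Cfsg.Agent.Lib.Invol.RankOneInter.Pencil.Graph

/-!
Owner: helper5. The action on the pencils at a point.

* `N1 S D`: the stabiliser in `S` of the pencil of `D`; modulo `R S D` it is elementary of order `q` and regular on
  the pencil.
* `centralizes_of_fix`: a torus element fixing another pencil centralises `Z S`.
* `commute_line`: the kernels of lines are abelian.
-/

set_option autoImplicit false
set_option linter.style.haveILetI false
set_option linter.unusedSectionVars false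

namespace CfsgLib.RankOneInter

open Subgroup
open scoped commutatorElement

variable {K : Type*} [Group K] [Finite K]

/-- The stabiliser in `S` of the pencil of `D`. -/
def N1 (S : Sylow 2 K) (D : Subgroup K) : Subgroup K := (S : Subgroup K) ⊓ normalizer (R S D : Set K)

theorem R_cj {S : Sylow 2 K} {g : K} (E : Subgroup K) (hg : g • S = S) :
    R S (cj g E) = cj g (R S E) := by
  rw [R, R, cj_inf]
  conv_lhs => rw [← hg, coe_smul_eq_cj]
  congr 1
  ext x
  rw [mem_cj, mem_normalizer_iff, mem_normalizer_iff]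
  simp only [mem_cj]
  constructor
  · intro h e
    have := h (g * e * g⁻¹)
    convert this using 2 <;> group
  · intro h e
    have := h (g⁻¹ * e * g)
    convert this using 2 <;> group

namespace Pencils

variable (P : Pencils K) {S T : Sylow 2 K} {D E : Subgroup K} {w x : K}

include P

/-- A central involution of a line outside the pencil is not in `R`. -/
theorem not_mem_R (hD : IsLine S D) (hE : IsLine S E) (hne : R S E ≠ R S D) (hx : IsCentral E x) :
    x ∉ R S D := by
  intro h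
  obtain ⟨w, hw⟩ := P.exists_central hD
  have hc : x * w = w * x := P.isLine_cent hD hw.1 hw.2.2 h
  have hwE : w ∈ R S E :=
    P.mem_R_of_commute hE hx.1 (CfsgLib.Signalizer.involution_ne_one hx.2.1) (line_le hD hw.1) hc.symm
  exact hne ((P.isComp_iff hD hw).1 ⟨hE, fun e => hne (e ▸ rfl), hwE⟩).1.2

theorem exists_other (hD : IsLine S D) : ∃ E, IsLine S E ∧ R S E ≠ R S D := by
  classical
  by_contra hno
  push Not at hno
  have h : Nat.card (Lines S) = P.q := by
    rw [← P.card_pencil hD]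
    exact Nat.card_congr (Equiv.subtypeEquivRight fun E => ⟨fun h => ⟨h, hno E h⟩, fun h => h.1⟩)
  rw [P.card_lines hD] at h
  have h1 : 0 < (P.q - 1) * sz S D := Nat.mul_pos (by have := P.two_lt_q; omega)
    (by have := P.four_le_sz hD; omega)
  omega

theorem R_lt (hD : IsLine S D) : ∃ σ ∈ N1 S D, σ ∉ R S D := by
  haveI := Fact.mk Nat.prime_two
  refine (Bender.exists_mem_normalizer_notMem S.isPGroup' (R_le : R S D ≤ _) fun e => ?_).imp
    fun σ h => ⟨⟨h.1, h.2.1⟩, h.2.2⟩
  obtain ⟨E, hE, hne⟩ := P.exists_other hD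
  obtain ⟨x, hx⟩ := P.exists_central hE
  exact P.not_mem_R hD hE hne hx (e.symm ▸ line_le hE hx.1)

theorem R_le_N1 : R S D ≤ N1 S D := fun _ h => ⟨h.1, le_normalizer h⟩

theorem smul_N1 {σ : K} (hσ : σ ∈ N1 S D) : σ • S = S := smul_sylow_of_mem hσ.1

theorem R_smul_D {σ : K} (hσ : σ ∈ N1 S D) : R S (cj σ D) = R S D := by
  rw [R_cj D (smul_sylow_of_mem hσ.1), cj_eq_self hσ.2]

theorem isLine_smul_D (hD : IsLine S D) {σ : K} (hσ : σ ∈ N1 S D) : IsLine S (cj σ D) :=
  smul_sylow_of_mem hσ.1 ▸ hD.cj σ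

theorem smul_D_eq_iff (hD : IsLine S D) {σ : K} (hσ : σ ∈ (S : Subgroup K)) :
    cj σ D = D ↔ σ ∈ R S D :=
  ⟨fun h => ⟨hσ, Bender.mem_normalizer_of_map_conj_eq h⟩, fun h => cj_eq_self h.2⟩

theorem smul_D_inj (hD : IsLine S D) {σ τ : K} (hσ : σ ∈ N1 S D) (hτ : τ ∈ N1 S D)
    (h : cj σ D = cj τ D) : σ⁻¹ * τ ∈ R S D := by
  refine ⟨show σ⁻¹ * τ ∈ (S : Subgroup K) from mul_mem (inv_mem hσ.1) hτ.1, Bender.mem_normalizer_of_map_conj_eq ?_⟩
  ext e
  rw [mem_cj]
  have h1 : ∀ y : K, σ⁻¹ * y * σ ∈ D ↔ τ⁻¹ * y * τ ∈ D := fun y => by rw [← mem_cj, ← mem_cj, h]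
  constructor
  · intro he
    have := (h1 (σ * e * σ⁻¹)).2 (by simpa [mul_assoc] using he)
    simpa [mul_assoc] using this
  · intro he
    have := (h1 (σ * e * σ⁻¹)).1 (by simpa [mul_assoc] using he)
    simpa [mul_assoc] using this

theorem line_commute_torus {g : K} (hg : ∀ d ∈ D, g * d = d * g) (n : ℕ) :
    ∀ d ∈ D, g ^ n * d = d * g ^ n := fun d hd => ((show Commute g d from hg d hd).pow_left n).eq

theorem smul_pow_eq {g : K} {U : Sylow 2 K} (h : g • U = U) (n : ℕ) : g ^ n • U = U := by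
  induction n with
  | zero => rw [pow_zero, one_smul]
  | succ n ih => rw [pow_succ, mul_smul, h, ih]

theorem conj_mem_N1 {g σ : K} (hS : g • S = S) (hR : cj g (R S D) = R S D) (hσ : σ ∈ N1 S D) :
    g * σ * g⁻¹ ∈ N1 S D := by
  refine ⟨hS ▸ conj_mem_smul hσ.1, Bender.mem_normalizer_of_map_conj_eq ?_⟩
  have h1 := cj_eq_self hσ.2
  calc cj (g * σ * g⁻¹) (R S D) = cj g (cj σ (cj g⁻¹ (R S D))) := by
        ext y; simp [mul_assoc]
    _ = R S D := by
        have h2 : cj g⁻¹ (R S D) = R S D := by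
          conv_lhs => rw [← hR]
          ext y; simp [mul_assoc]
        rw [h2, h1, hR]

/-- The translations: the stabiliser of the pencil is transitive on it. -/
theorem exists_translation (hD : IsLine S D) (hE : IsLine S E) (hR : R S E = R S D) :
    ∃ σ ∈ N1 S D, cj σ D = E := by
  rcases eq_or_ne E D with rfl | hne
  · exact ⟨1, one_mem _, by ext y; simp⟩
  obtain ⟨σ, hσ, hσR⟩ := P.R_lt hD
  obtain ⟨w, hw⟩ := P.exists_central hD
  set E₁ := cj σ D with hE₁
  have hE₁' : IsComp S D w E₁ := P.isComp_of_R_eq hD hw (P.isLine_smul_D hD hσ)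
    (fun h => hσR ((P.smul_D_eq_iff hD hσ.1).1 h)) (P.R_smul_D hσ)
  obtain ⟨i, hi, hi1, hiw, -⟩ := P.exists_form hD hw hE₁'
  obtain ⟨j, hj, hj1, hjw, hjw1⟩ := P.exists_form hD hw (P.isComp_of_R_eq hD hw hE hne hR)
  obtain ⟨-, U, hUS, hDU⟩ := id hD
  obtain ⟨g, -, hgS, -, hgD, hgt, -⟩ := (P.lineFacts hD (hDU.le.trans inf_le_right) hUS).torus
  obtain ⟨n, hn⟩ := hgt i hi j hj hi1 hj1
  have hc := P.line_commute_torus hgD n
  have hgS' : g ^ n • S = S := P.smul_pow_eq hgS n
  have hgDD : cj (g ^ n) D = D := cj_eq_self (P.cent_normalizes hD hc)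
  have hmem : g ^ n * σ * (g ^ n)⁻¹ ∈ N1 S D :=
    P.conj_mem_N1 hgS' (by rw [← R_cj D hgS', hgDD]) hσ
  refine ⟨_, hmem, ?_⟩
  refine P.eq_of_common (P.isLine_smul_D hD hmem) hE (x := j * w) ?_ hjw hjw1
  have e : cj (g ^ n * σ * (g ^ n)⁻¹) D = cj (g ^ n) (cj σ D) := by
    conv_lhs => rw [← hgDD]
    ext y; simp [mul_assoc]
  rw [e, mem_cj, ← hn]
  convert hiw using 1
  calc (g ^ n)⁻¹ * (g ^ n * i * (g ^ n)⁻¹ * w) * g ^ n = i * ((g ^ n)⁻¹ * (w * g ^ n)) := by group
    _ = i * w := by rw [← hc w hw.1, inv_mul_cancel_left]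

theorem relIndex_N1 (hD : IsLine S D) : (R S D).relIndex (N1 S D) = P.q := by
  rw [← P.card_pencil hD, relIndex, Subgroup.index]
  let f : N1 S D ⧸ (R S D).subgroupOf (N1 S D) → {E : Subgroup K // IsLine S E ∧ R S E = R S D} :=
    Quotient.lift (fun σ => ⟨cj (σ : K) D, P.isLine_smul_D hD σ.2, P.R_smul_D σ.2⟩) fun a b h => by
      refine Subtype.ext ?_
      have h' : (a : K)⁻¹ * (b : K) ∈ R S D := by
        have := QuotientGroup.leftRel_apply.1 h
        rwa [mem_subgroupOf] at this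
      have e := cj_eq_self h'.2
      calc cj (a : K) D = cj (a : K) (cj ((a : K)⁻¹ * b) D) := by rw [e]
        _ = cj (b : K) D := by ext y; simp [mul_assoc]
  refine Nat.card_congr (Equiv.ofBijective f ⟨?_, ?_⟩)
  · intro a b h
    obtain ⟨a, rfl⟩ := QuotientGroup.mk_surjective a
    obtain ⟨b, rfl⟩ := QuotientGroup.mk_surjective b
    refine QuotientGroup.eq.2 (mem_subgroupOf.2 ?_)
    exact P.smul_D_inj hD a.2 b.2 (congrArg Subtype.val h)
  · rintro ⟨E, hE, hR⟩
    obtain ⟨σ, hσ, e⟩ := P.exists_translation hD hE hR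
    exact ⟨QuotientGroup.mk ⟨σ, hσ⟩, Subtype.ext e⟩

theorem card_N1 (hD : IsLine S D) : Nat.card (N1 S D) = Nat.card (R S D) * P.q := by
  rw [← P.relIndex_N1 hD, relIndex, ← ((R S D).subgroupOf (N1 S D)).card_mul_index,
    Nat.card_congr (subgroupOfEquivOfLe (P.R_le_N1 (D := D))).toEquiv]

theorem sq_mul_mem {τ r : K} (hτ : τ ∈ normalizer (R S D : Set K)) (h : τ * τ ∈ R S D) (hr : r ∈ R S D) :
    (τ * r) * (τ * r) ∈ R S D := by
  have h1 := (mem_normalizer_iff''.1 hτ r).1 hr
  convert mul_mem (mul_mem h h1) hr using 1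
  group

/-- The squares of `N1` lie in `R`. -/
theorem sq_mem_R (hD : IsLine S D) {σ : K} (hσ : σ ∈ N1 S D) : σ * σ ∈ R S D := by
  haveI := Fact.mk Nat.prime_two
  by_cases hσR : σ ∈ R S D
  · exact mul_mem hσR hσR
  -- some element outside squares into `R`
  obtain ⟨τ, hτ, hτR, hτ2⟩ : ∃ τ ∈ N1 S D, τ ∉ R S D ∧ τ * τ ∈ R S D := by
    obtain ⟨k, hk⟩ := S.isPGroup' ⟨σ, hσ.1⟩
    have hk' : σ ^ 2 ^ k = 1 := congrArg Subtype.val hk
    have key : ∀ (k : ℕ) (τ : K), τ ∈ N1 S D → τ ∉ R S D → τ ^ 2 ^ k = 1 →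
        ∃ τ ∈ N1 S D, τ ∉ R S D ∧ τ * τ ∈ R S D := by
      intro k
      induction k with
      | zero =>
        intro τ _ h1 h2
        rw [pow_zero, pow_one] at h2
        exact absurd (h2 ▸ one_mem _) h1
      | succ k ih =>
        intro τ hτ h1 h2
        by_cases h3 : τ * τ ∈ R S D
        · exact ⟨τ, hτ, h1, h3⟩
        · exact ih _ (mul_mem hτ hτ) h3 (by rw [← pow_two, ← pow_mul, ← pow_succ', h2])
    exact key k σ hσ hσR hk'
  obtain ⟨w, hw⟩ := P.exists_central hD
  have hE := P.isComp_of_R_eq hD hw (P.isLine_smul_D hD hτ)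
    (fun h => hτR ((P.smul_D_eq_iff hD hτ.1).1 h)) (P.R_smul_D hτ)
  have hE' := P.isComp_of_R_eq hD hw (P.isLine_smul_D hD hσ)
    (fun h => hσR ((P.smul_D_eq_iff hD hσ.1).1 h)) (P.R_smul_D hσ)
  obtain ⟨i, hi, hi1, hiw, -⟩ := P.exists_form hD hw hE
  obtain ⟨j, hj, hj1, hjw, hjw1⟩ := P.exists_form hD hw hE'
  obtain ⟨-, U, hUS, hDU⟩ := id hD
  obtain ⟨g, -, hgS, -, hgD, hgt, -⟩ := (P.lineFacts hD (hDU.le.trans inf_le_right) hUS).torus
  obtain ⟨n, hn⟩ := hgt i hi j hj hi1 hj1
  have hc := P.line_commute_torus hgD n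
  have hgS' : g ^ n • S = S := P.smul_pow_eq hgS n
  have hgDD : cj (g ^ n) D = D := cj_eq_self (P.cent_normalizes hD hc)
  have hgR : cj (g ^ n) (R S D) = R S D := by rw [← R_cj D hgS', hgDD]
  have hmem : g ^ n * τ * (g ^ n)⁻¹ ∈ N1 S D := P.conj_mem_N1 hgS' hgR hτ
  have h2 : g ^ n * τ * (g ^ n)⁻¹ * (g ^ n * τ * (g ^ n)⁻¹) ∈ R S D := by
    rw [← hgR, show g ^ n * τ * (g ^ n)⁻¹ * (g ^ n * τ * (g ^ n)⁻¹) = g ^ n * (τ * τ) * (g ^ n)⁻¹ by group]
    exact conj_mem_cj hτ2
  have e : cj (g ^ n * τ * (g ^ n)⁻¹) D = cj σ D := by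
    refine P.eq_of_common (P.isLine_smul_D hD hmem) (P.isLine_smul_D hD hσ) (x := j * w) ?_ hjw hjw1
    have e : cj (g ^ n * τ * (g ^ n)⁻¹) D = cj (g ^ n) (cj τ D) := by
      conv_lhs => rw [← hgDD]
      ext y; simp [mul_assoc]
    rw [e, mem_cj, ← hn]
    convert hiw using 1
    calc (g ^ n)⁻¹ * (g ^ n * i * (g ^ n)⁻¹ * w) * g ^ n = i * ((g ^ n)⁻¹ * (w * g ^ n)) := by group
      _ = i * w := by rw [← hc w hw.1, inv_mul_cancel_left]
  have h3 := P.sq_mul_mem hmem.2 h2 (P.smul_D_inj hD hmem hσ e)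
  rwa [mul_inv_cancel_left] at h3

/-- The kernels of lines are abelian. -/
theorem commute_line (hD : IsLine S D) : ∀ d ∈ D, ∀ e ∈ D, d * e = e * d := by
  haveI := Fact.mk Nat.prime_two
  by_contra hno
  push Not at hno
  obtain ⟨d, hd, e, he, hne⟩ := hno
  obtain ⟨-, T, hTS, hDT⟩ := id hD
  have hLF := P.lineFacts hD (hDT.le.trans inf_le_right) hTS
  have hgen := hLF.gen d hd e he hne
  obtain ⟨σ, hσ, hσR⟩ := P.R_lt hD
  -- conjugation by `σ` maps `D` into `Z D`
  have himg : ∀ x ∈ D, ∃ j ∈ P.Z S, ∃ y ∈ D, σ * x * σ⁻¹ = j * y := by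
    intro x hx
    rw [hgen] at hx
    induction hx using Subgroup.closure_induction with
    | mem c hc =>
      exact hLF.sq_mem _ ((mem_normalizer_iff.1 hσ.2 c).1 (le_R hD hc.1)) (by
        rw [show σ * c * σ⁻¹ * (σ * c * σ⁻¹) = σ * (c * c) * σ⁻¹ by group, hc.2, mul_one, mul_inv_cancel]
        exact one_mem _)
    | one => exact ⟨1, one_mem _, 1, one_mem _, by simp⟩
    | mul x y _ _ hx hy =>
      obtain ⟨j, hj, u, hu, e1⟩ := hx
      obtain ⟨k, hk, v, hv, e2⟩ := hy
      refine ⟨j * k, mul_mem hj hk, u * v, mul_mem hu hv, ?_⟩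
      rw [show σ * (x * y) * σ⁻¹ = σ * x * σ⁻¹ * (σ * y * σ⁻¹) by group, e1, e2, mul_assoc,
        ← mul_assoc u k, P.Z_central S k hk u (line_le hD hu), ← mul_assoc, ← mul_assoc, ← mul_assoc]
    | inv x _ hx =>
      obtain ⟨j, hj, u, hu, e1⟩ := hx
      refine ⟨j⁻¹, inv_mem hj, u⁻¹, inv_mem hu, ?_⟩
      rw [show σ * x⁻¹ * σ⁻¹ = (σ * x * σ⁻¹)⁻¹ by group, e1, mul_inv_rev,
        P.Z_central S j⁻¹ (inv_mem hj) u⁻¹ (line_le hD (inv_mem hu))]
  set C := ⁅D, D⁆ with hC
  have hCD : C ≤ D := commutator_le.2 fun a ha b hb =>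
    mul_mem (mul_mem (mul_mem ha hb) (inv_mem ha)) (inv_mem hb)
  -- the derived subgroup is mapped into itself
  have hCimg : ∀ c ∈ C, σ * c * σ⁻¹ ∈ C := by
    intro c hc
    have h : C ≤ C.comap (MulAut.conj σ).toMonoidHom := commutator_le.2 fun a ha b hb => by
      obtain ⟨j, hj, u, hu, e1⟩ := himg a ha
      obtain ⟨k, hk, v, hv, e2⟩ := himg b hb
      rw [mem_comap, MulEquiv.coe_toMonoidHom, MulAut.conj_apply,
        show σ * ⁅a, b⁆ * σ⁻¹ = ⁅σ * a * σ⁻¹, σ * b * σ⁻¹⁆ by simp [commutatorElement_def, mul_assoc],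
        e1, e2]
      have hju : Commute j u := (P.Z_central S j hj u (line_le hD hu)).symm
      have hjv : Commute j v := (P.Z_central S j hj v (line_le hD hv)).symm
      have hku : Commute k u := (P.Z_central S k hk u (line_le hD hu)).symm
      have hjk : Commute j k := (P.Z_central S j hj k (P.Z_le S hk)).symm
      have h1 : j * u * (k * v) = k * v * (v⁻¹ * u * v) * j := by
        rw [hju.eq]
        calc u * j * (k * v) = u * ((k * v) * j) := by rw [mul_assoc u, (hjk.mul_right hjv).eq]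
          _ = u * k * v * j := by group
          _ = k * u * v * j := by rw [hku.eq]
          _ = _ := by group
      have h2 : ⁅j * u, k * v⁆ = ⁅u, v⁆ := by
        rw [commutatorElement_def, commutatorElement_def]
        have e3 : j * u * (k * v) = u * v * (j * k) := by
          calc j * u * (k * v) = u * j * (k * v) := by rw [hju.eq]
            _ = u * (j * k * v) := by group
            _ = u * (v * (j * k)) := by rw [(hjv.mul_left (P.Z_central S k hk v (line_le hD hv)).symm).eq]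
            _ = _ := by group
        have e4 : (j * u)⁻¹ * (k * v)⁻¹ = (v * u)⁻¹ * (j * k)⁻¹ := by
          rw [← mul_inv_rev, ← mul_inv_rev]
          congr 1
          calc k * v * (j * u) = k * (v * j) * u := by group
            _ = k * (j * v) * u := by rw [hjv.eq]
            _ = j * k * (v * u) := by rw [← mul_assoc k j, hjk.eq]; group
        calc j * u * (k * v) * (j * u)⁻¹ * (k * v)⁻¹ = (j * u * (k * v)) * ((j * u)⁻¹ * (k * v)⁻¹) := by group
          _ = u * v * (j * k) * ((v * u)⁻¹ * (j * k)⁻¹) := by rw [e3, e4]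
          _ = u * v * ((j * k) * (v * u)⁻¹) * (j * k)⁻¹ := by group
          _ = u * v * ((v * u)⁻¹ * (j * k)) * (j * k)⁻¹ := by
              rw [(((hjv.mul_left (P.Z_central S k hk v (line_le hD hv)).symm).mul_right
                (hju.mul_left hku)).inv_right).eq]
          _ = _ := by group
      rw [h2]
      exact commutator_mem_commutator hu hv
    exact h hc
  -- a central involution in it
  have hp : IsPGroup 2 D := S.isPGroup'.to_le (line_le hD)
  haveI : (C.subgroupOf D).Normal := ⟨fun n hn a => mem_subgroupOf.2 (by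
    have h1 : ((a : K) * (n : K) * (a : K)⁻¹ * (n : K)⁻¹) ∈ C :=
      commutator_mem_commutator a.2 n.2
    simpa using mul_mem h1 (mem_subgroupOf.1 hn))⟩
  have hne' : C.subgroupOf D ≠ ⊥ := fun h => hne (by
    have h1 : (⟨_, hCD (commutator_mem_commutator hd he)⟩ : D) ∈ C.subgroupOf D :=
      mem_subgroupOf.2 (commutator_mem_commutator hd he)
    rw [h, mem_bot] at h1
    exact commutatorElement_eq_one_iff_mul_comm.1 (congrArg Subtype.val h1))
  have hinf := CfsgLib.PGroups.inf_center_ne_bot hp hne'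
  obtain ⟨k, hk0, hk⟩ := (hp.to_subgroup (C.subgroupOf D ⊓ center D)).nontrivial_iff_card.1
    ((nontrivial_iff_ne_bot _).2 hinf)
  obtain ⟨w, hw⟩ := exists_prime_orderOf_dvd_card' (G := (C.subgroupOf D ⊓ center D : Subgroup D)) 2
    (hk ▸ dvd_pow_self 2 hk0.ne')
  have hwC : ((w : D) : K) ∈ C := mem_subgroupOf.1 w.2.1
  have hw1 : ((w : D) : K) ≠ 1 := CfsgLib.Signalizer.involution_ne_one
    (by rw [Subgroup.orderOf_coe, Subgroup.orderOf_coe, hw])
  refine hσR ((P.smul_D_eq_iff hD hσ.1).1 (P.eq_of_common (P.isLine_smul_D hD hσ) hD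
    (conj_mem_cj (w : D).2) (hCD (hCimg _ hwC)) fun h => hw1 (conj_eq_one_iff.1 h)))

/-- A torus element fixing a pencil other than that of `D` centralises `Z S`. -/
theorem centralizes_of_fix (hD : IsLine S D) (hT : D ≤ (T : Subgroup K)) (hTS : T ≠ S) {g : K}
    (hg : Odd (orderOf g)) (hgS : g • S = S) (hgT : g • T = T) (hgD : ∀ d ∈ D, g * d = d * g)
    (hfix : ∀ (i : ℕ) (z : K), z ∈ P.Z S ∨ z ∈ P.Z T → z ≠ 1 → g ^ i * z = z * g ^ i →
      ∀ z' ∈ P.Z S, g ^ i * z' = z' * g ^ i)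
    (hthird : ∀ (i : ℕ) (U : Sylow 2 K), D ≤ (U : Subgroup K) → U ≠ S → U ≠ T → g ^ i • U = U →
      ∀ z' ∈ P.Z S, g ^ i * z' = z' * g ^ i)
    {i : ℕ} (hE : IsLine S E) (hne : R S E ≠ R S D) (hfixE : cj (g ^ i) (R S E) = R S E) :
    ∀ z ∈ P.Z S, g ^ i * z = z * g ^ i := by
  classical
  haveI := Fact.mk Nat.prime_two
  by_contra hno
  -- a power of prime power order moving `Z`
  have key : ∀ o m : ℕ, orderOf (g ^ m) = o → cj (g ^ m) (R S E) = R S E →
      ∀ z ∈ P.Z S, g ^ m * z = z * g ^ m := by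
    intro o
    induction o using Nat.strong_induction_on with
    | _ o ih =>
      intro m hm hfm
      have hpowfix : ∀ a : ℕ, cj (g ^ (m * a)) (R S E) = R S E := fun a => by
        rw [pow_mul]
        induction a with
        | zero => rw [pow_zero]; ext y; simp
        | succ a ih2 =>
          calc cj ((g ^ m) ^ (a + 1)) (R S E) = cj ((g ^ m) ^ a) (cj (g ^ m) (R S E)) := by
                ext y; simp [pow_succ, mul_assoc]
            _ = R S E := by rw [hfm, ih2]
      rcases eq_or_ne o 1 with rfl | ho1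
      · intro z _
        rw [orderOf_eq_one_iff.1 hm, one_mul, mul_one]
      have ho0 : o ≠ 0 := hm ▸ (orderOf_pos _).ne'
      set ℓ := o.minFac with hℓ
      have hℓp : ℓ.Prime := Nat.minFac_prime ho1
      set a := ℓ ^ o.factorization ℓ with ha
      set b := o / a with hb
      have hab : a * b = o := Nat.mul_div_cancel' (Nat.ordProj_dvd o ℓ)
      by_cases hb1 : b = 1
      · -- prime power order
        rw [hb1, mul_one] at hab
        haveI := Fact.mk hℓp
        have hp : IsPGroup ℓ (zpowers (g ^ m)) :=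
          IsPGroup.of_card (n := o.factorization ℓ) (by rw [Nat.card_zpowers, hm, ← ha, hab])
        have hℓ2 : ℓ ≠ 2 := fun h2 => by
          have h3 : Odd o := hm ▸ hg.of_dvd_nat (orderOf_pow_dvd m)
          exact (Nat.not_even_iff_odd.2 h3) (even_iff_two_dvd.2 (h2 ▸ Nat.minFac_dvd o))
        have hgm : ∀ d ∈ D, g ^ m * d = d * g ^ m := P.line_commute_torus hgD m
        have hndvd : ∀ k : ℕ, ¬ ℓ ∣ 2 ^ k := fun k h =>
          hℓ2 ((Nat.prime_dvd_prime_iff_eq hℓp Nat.prime_two).1 (hℓp.dvd_of_dvd_pow h))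
        have hgmS : g ^ m • S = S := P.smul_pow_eq hgS m
        -- fix a line of the pencil of `E`
        let X := {F : Subgroup K // IsLine S F ∧ R S F = R S E}
        have hzS : ∀ x ∈ zpowers (g ^ m), x • S = S ∧ cj x (R S E) = R S E := by
          intro x hx
          have h : x ∈ MulAction.stabilizer K S ⊓ normalizer (R S E : Set K) :=
            (zpowers_le.2 (mem_inf.2 ⟨MulAction.mem_stabilizer_iff.2 hgmS, Bender.mem_normalizer_of_map_conj_eq hfm⟩)) hx
          exact ⟨h.1, cj_eq_self h.2⟩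
        letI : MulAction (zpowers (g ^ m)) X :=
          { smul := fun x F => ⟨cj (x : K) F.1, (congrArg (fun U : Sylow 2 K => IsLine U (cj (x : K) F.1)) (hzS x x.2).1).mp (F.2.1.cj (x : K)),
              by rw [R_cj F.1 (hzS x x.2).1, F.2.2, (hzS x x.2).2]⟩
            one_smul := fun F => Subtype.ext (show cj ((1 : zpowers (g ^ m)) : K) F.1 = F.1 by ext y; simp)
            mul_smul := fun x y F => Subtype.ext (show cj ((x * y : zpowers (g ^ m)) : K) F.1 =
              cj (x : K) (cj (y : K) F.1) by ext v; simp [mul_assoc]) }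
        obtain ⟨n, -, hq⟩ := P.q_pow
        obtain ⟨⟨F, hF, hFR⟩, hFfix⟩ := hp.nonempty_fixed_point_of_prime_not_dvd_card X (by
          rw [P.card_pencil hE, hq]; exact hndvd n)
        have hFg : cj (g ^ m) F = F := congrArg Subtype.val (hFfix ⟨g ^ m, mem_zpowers _⟩)
        -- fix a point of it
        let Y := {U : Sylow 2 K // F ≤ (U : Subgroup K) ∧ U ≠ S}
        have hzF : ∀ x ∈ zpowers (g ^ m), x • S = S ∧ cj x F = F := by
          intro x hx
          have h : x ∈ MulAction.stabilizer K S ⊓ normalizer (F : Set K) :=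
            (zpowers_le.2 (mem_inf.2 ⟨MulAction.mem_stabilizer_iff.2 hgmS, Bender.mem_normalizer_of_map_conj_eq hFg⟩)) hx
          exact ⟨h.1, cj_eq_self h.2⟩
        letI : MulAction (zpowers (g ^ m)) Y :=
          { smul := fun x U => ⟨(x : K) • U.1, le_of_eq_of_le (hzF x x.2).2.symm (cj_le_smul_iff.2 U.2.1), fun e =>
              U.2.2 (MulAction.injective (x : K) (e.trans (hzF x x.2).1.symm))⟩
            one_smul := fun U => Subtype.ext (one_smul K U.1)
            mul_smul := fun x y U => Subtype.ext (mul_smul (x : K) (y : K) U.1) }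
        obtain ⟨k, hk⟩ := (IsPGroup.to_le (S.isPGroup') (R_le : R S F ≤ _)).index (F.subgroupOf (R S F))
        obtain ⟨⟨c, hFc, hcS⟩, hcfix⟩ := hp.nonempty_fixed_point_of_prime_not_dvd_card Y (by
          rw [P.card_line_ne hF, show sz S F = 2 ^ k from hk]; exact hndvd k)
        have hgc : g ^ m • c = c := congrArg Subtype.val (hcfix ⟨g ^ m, mem_zpowers _⟩)
        have hcoff : ¬ D ≤ (c : Subgroup K) := fun h =>
          hne (hFR.symm.trans (by rw [(P.inf_eq hF hFc hcS).symm.trans (P.inf_eq hD h hcS)]))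
        -- its projection
        obtain ⟨w, hw⟩ := P.exists_central hD
        obtain ⟨hwc, hbne⟩ := P.exists_link hD hw hcoff
        obtain ⟨T₀, hT₀, E₀, hE₀, hE₀c⟩ := P.exists_proj hD hw hcoff
        have hE₀e : E₀ = (c : Subgroup K) ⊓ ((w • c : Sylow 2 K) : Subgroup K) := by
          refine (P.inf_eq (P.isLine_of_le hE₀.1 hE₀c) ?_ hwc).symm
          rw [← cj_eq_self hE₀.2.2.2]; exact cj_le_smul_iff.2 hE₀c
        have hgw : g ^ m * w = w * g ^ m := hgm w hw.1
        have hgE₀ : cj (g ^ m) E₀ = E₀ := by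
          rw [hE₀e, cj_inf, ← coe_smul_eq_cj, ← coe_smul_eq_cj, hgc, ← mul_smul, hgw, mul_smul, hgc]
        have hgDD : cj (g ^ m) D = D := cj_eq_self (P.cent_normalizes hD hgm)
        have hgT₀ : g ^ m • T₀ = T₀ := by
          by_contra h
          have h1 : D ≤ ((g ^ m • T₀ : Sylow 2 K) : Subgroup K) := hgDD ▸ cj_le_smul_iff.2 hT₀
          have h2 : E₀ ≤ ((g ^ m • T₀ : Sylow 2 K) : Subgroup K) := hgE₀ ▸ cj_le_smul_iff.2 (line_le hE₀.1)
          exact hE₀.2.1 ((P.inf_eq hE₀.1 h2 h).symm.trans (P.inf_eq (P.isLine_D hD hT₀) h1 h))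
        by_cases hS0 : T₀ = S
        · subst hS0
          obtain ⟨j, hj, hj1, hjw, -⟩ := P.exists_form hD hw hE₀
          refine hfix m j (Or.inl hj) hj1 ?_
          have h1 : g ^ m * j * (g ^ m)⁻¹ * w ∈ E₀ := by
            rw [← hgE₀, mem_cj]
            convert hjw using 1
            calc (g ^ m)⁻¹ * (g ^ m * j * (g ^ m)⁻¹ * w) * g ^ m = j * ((g ^ m)⁻¹ * (w * g ^ m)) := by group
              _ = j * w := by rw [← hgw, inv_mul_cancel_left]
          have h2 : g ^ m * j * (g ^ m)⁻¹ ∈ P.Z T₀ := by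
            have := P.Z_conj (g ^ m) T₀ j hj
            rwa [hgT₀] at this
          exact mul_inv_eq_iff_eq_mul.1 (P.form_unique hE₀.1 h2 hj h1 hjw)
        by_cases hT0 : T₀ = T
        · subst hT0
          obtain ⟨j, hj, hj1, hjw, -⟩ := P.exists_form (P.isLine_D hD hT₀) hw hE₀
          refine hfix m j (Or.inr hj) hj1 ?_
          have h1 : g ^ m * j * (g ^ m)⁻¹ * w ∈ E₀ := by
            rw [← hgE₀, mem_cj]
            convert hjw using 1
            calc (g ^ m)⁻¹ * (g ^ m * j * (g ^ m)⁻¹ * w) * g ^ m = j * ((g ^ m)⁻¹ * (w * g ^ m)) := by group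
              _ = j * w := by rw [← hgw, inv_mul_cancel_left]
          have h2 : g ^ m * j * (g ^ m)⁻¹ ∈ P.Z T₀ := by
            have := P.Z_conj (g ^ m) T₀ j hj
            rwa [hgT₀] at this
          exact mul_inv_eq_iff_eq_mul.1 (P.form_unique hE₀.1 h2 hj h1 hjw)
        exact hthird m T₀ hT₀ hS0 hT0 hgT₀
      · -- split into coprime parts
        have hb0 : 0 < b := Nat.pos_of_ne_zero fun h => ho0 (by rw [← hab, h, mul_zero])
        have hv : 1 ≤ o.factorization ℓ :=
          Nat.Prime.factorization_pos_of_dvd hℓp ho0 (Nat.minFac_dvd o)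
        have ha1 : 1 < a := Nat.one_lt_pow (by omega) hℓp.one_lt
        have hcop : Nat.Coprime a b := (Nat.coprime_ordCompl hℓp ho0).pow_left _
        have hoa : orderOf (g ^ (m * a)) = b := by
          rw [pow_mul, orderOf_pow' _ (by omega : a ≠ 0), hm, Nat.gcd_eq_right (hab ▸ dvd_mul_right a b)]
        have hob : orderOf (g ^ (m * b)) = a := by
          rw [pow_mul, orderOf_pow' _ (by omega : b ≠ 0), hm, Nat.gcd_eq_right (hab ▸ dvd_mul_left b a),
            ← hab, Nat.mul_div_cancel _ hb0]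
        have hca := ih b (by
          rw [← hab]; exact lt_mul_of_one_lt_left hb0 ha1) _ hoa (hpowfix a)
        have hcb := ih a (by
          rw [← hab]; exact lt_mul_of_one_lt_right (by omega) (by omega : 1 < b)) _ hob (hpowfix b)
        intro z hz
        have h1 : Commute (g ^ (m * a)) z := hca z hz
        have h2 : Commute (g ^ (m * b)) z := hcb z hz
        have e : g ^ m = (g ^ (m * a)) ^ Nat.gcdA a b * (g ^ (m * b)) ^ Nat.gcdB a b := by
          rw [pow_mul, pow_mul, ← zpow_natCast (g ^ m) a, ← zpow_natCast (g ^ m) b, ← zpow_mul, ← zpow_mul,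
            ← zpow_add, ← Nat.gcd_eq_gcd_ab, hcop, Nat.cast_one, zpow_one]
        rw [e]
        exact ((h1.zpow_left _).mul_left (h2.zpow_left _)).eq
  exact hno (key _ i rfl hfixE)

end Pencils

end CfsgLib.RankOneInter
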