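import Cfsg.Agent.Lib.Invol.RankOneInter.Pencil.Orbit

/-!
Owner: helper5. The lines outside a pencil, and the proof that a line has `q + 1` points.

* `card_Lines`, `card_others`: the numbers of lines at a point.
* `others`: if every line outside the pencil of `D` stabilises it, then these lines have kernels of order two, one
  for every coset of `D` in `N1 S D` outside `R S D`.
* `exists_torus`: the torus of a line moves every other pencil, unless it centralises `Z S`.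
* `sz_eq`: a line has `q + 1` points.
-/

set_option autoImplicit false
set_option linter.style.haveILetI false
set_option linter.unusedSectionVars false

namespace CfsgLib.RankOneInter

open Subgroup

variable {K : Type*} [Group K]

theorem cj_mul (g h : K) (A : Subgroup K) : cj (g * h) A = cj g (cj h A) := by
  ext y; simp [mul_assoc]

theorem cj_one (A : Subgroup K) : cj (1 : K) A = A := by
  ext y; simp

theorem cj_cancel (g : K) (A : Subgroup K) : cj g⁻¹ (cj g A) = A := by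
  rw [← cj_mul, inv_mul_cancel, cj_one]

/-- The kernel is `{1, x}`. -/
def IsTwo (E : Subgroup K) (x : K) : Prop :=
  x ∈ E ∧ x * x = 1 ∧ x ≠ 1 ∧ ∀ e ∈ E, e = 1 ∨ e = x

theorem IsTwo.isCentral {E : Subgroup K} {x : K} (h : IsTwo E x) : IsCentral E x :=
  ⟨h.1, CfsgLib.Signalizer.orderOf_eq_two_of h.2.2.1 h.2.1, fun d hd => by
    rcases h.2.2.2 d hd with rfl | rfl <;> simp⟩

variable [Finite K]

theorem N1_cj {S : Sylow 2 K} {D : Subgroup K} {g : K} (hg : g • S = S) :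
    N1 S (cj g D) = cj g (N1 S D) := by
  rw [N1, N1, cj_inf, R_cj D hg, ← coe_smul_eq_cj, hg]
  congr 1
  ext x
  rw [mem_cj, mem_normalizer_iff, mem_normalizer_iff]
  simp only [mem_cj]
  constructor
  · intro h e
    have := h (g * e * g⁻¹)
    convert this using 2 <;> group
  · intro h e
    have := h (g⁻¹ * e * g)
    convert this using 2 <;> group

namespace Pencils

variable (P : Pencils K) {S T : Sylow 2 K} {D E F : Subgroup K} {w x : K}

include P

theorem exists_off (hD : IsLine S D) : ∃ U : Sylow 2 K, ¬ D ≤ (U : Subgroup K) := by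
  by_contra hall
  push Not at hall
  exact hD.1 ((eq_bot_iff_forall _).2 fun x hx => P.core x fun U => hall U hx)

theorem card_Lines (hD : IsLine S D) : Nat.card (Lines S) = (P.q - 1) * (sz S D + 1) + 1 := by
  obtain ⟨U, hU⟩ := P.exists_off hD
  rw [P.lines_eq hD hU, P.all_collinear hD hU]

theorem card_others (hD : IsLine S D) :
    Nat.card {E : Subgroup K // IsLine S E ∧ R S E ≠ R S D} = (P.q - 1) * sz S D := by
  classical
  haveI := Fintype.ofFinite (Subgroup K)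
  have h1 := P.card_Lines hD
  have h2 := P.card_pencil hD
  unfold Lines at h1
  rw [Nat.card_eq_fintype_card, Fintype.card_subtype] at h1 h2 ⊢
  have h3 := Finset.card_filter_add_card_filter_not
    (s := Finset.univ.filter fun E : Subgroup K => IsLine S E) (fun E => R S E = R S D)
  rw [Finset.filter_filter, Finset.filter_filter, h1, h2] at h3
  rw [Nat.mul_add, mul_one] at h3
  have e : (P.q - 1) * (sz S D + 1) = (P.q - 1) * sz S D + (P.q - 1) := Nat.mul_succ _ _
  have := P.two_lt_q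
  simp only [ne_eq] at h3 ⊢; omega

theorem sz_pow (hD : IsLine S D) : ∃ k, sz S D = 2 ^ k := by
  haveI := Fact.mk Nat.prime_two
  exact (S.isPGroup'.to_le (R_le : R S D ≤ _)).index (D.subgroupOf (R S D))

theorem card_R (hD : IsLine S D) : Nat.card (R S D) = Nat.card D * sz S D := by
  rw [sz, relIndex, ← (D.subgroupOf (R S D)).card_mul_index,
    Nat.card_congr (subgroupOfEquivOfLe (le_R hD)).toEquiv]

/-- Two central involutions of other lines in one coset of `D` are equal. -/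
theorem coset_unique (hD : IsLine S D) (hE : IsLine S E) (hne : R S E ≠ R S D) (hx : IsCentral E x) {x' : K}
    (hx'2 : x' * x' = 1) (h : x⁻¹ * x' ∈ D) : x = x' := by
  by_contra hxx
  have hd1 : x⁻¹ * x' ≠ 1 := fun e => hxx (inv_mul_eq_one.1 e)
  have hxS : x ∈ (S : Subgroup K) := line_le hE hx.1
  have hc : x * (x⁻¹ * x') * x⁻¹ ∈ D := by
    have e : x * (x⁻¹ * x') * x⁻¹ = (x⁻¹ * x')⁻¹ := by
      have i1 := CfsgLib.Signalizer.involution_inv hx.2.1
      have i2 : x'⁻¹ = x' := inv_eq_of_mul_eq_one_right hx'2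
      rw [mul_inv_cancel_left, mul_inv_rev, inv_inv, i1, i2]
    exact e ▸ inv_mem h
  refine P.not_mem_R hD hE hne hx ⟨hxS, Bender.mem_normalizer_of_map_conj_eq (eq_of_le_of_card_ge ?_ ?_)⟩
  · rintro _ ⟨e, he, rfl⟩
    exact P.conj_mem_line hD (smul_sylow_of_mem hxS) h hd1 hc e he
  · rw [card_map_of_injective (MulAut.conj x).injective]

/-- Lines outside the pencil stabilising it. -/
theorem others (hD : IsLine S D) (hN : ∀ E, IsLine S E → R S E ≠ R S D → E ≤ N1 S D) :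
    (∀ E, IsLine S E → R S E ≠ R S D → ∃ x, IsTwo E x) ∧
    (∀ σ ∈ N1 S D, σ ∉ R S D →
      ∃ E, IsLine S E ∧ R S E ≠ R S D ∧ ∃ x, IsCentral E x ∧ σ⁻¹ * x ∈ D) := by
  classical
  let A := Σ E : {E : Subgroup K // IsLine S E ∧ R S E ≠ R S D}, {x : K // IsCentral E.1 x}
  let B := {c : ↥(N1 S D) ⧸ D.subgroupOf (N1 S D) //
    c ∉ ((↑) : ↥(N1 S D) → ↥(N1 S D) ⧸ D.subgroupOf (N1 S D)) '' {σ | (σ : K) ∈ R S D}}
  let f : A → B := fun a => ⟨QuotientGroup.mk ⟨a.2.1, hN _ a.1.2.1 a.1.2.2 a.2.2.1⟩, by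
    rintro ⟨σ, hσ, he⟩
    have h1 := mem_subgroupOf.1 (QuotientGroup.eq.1 he)
    have h2 := mul_mem (show (σ : K) ∈ R S D from hσ) (le_R hD h1)
    simp only [Subgroup.coe_mul, InvMemClass.coe_inv, mul_inv_cancel_left] at h2
    exact P.not_mem_R hD a.1.2.1 a.1.2.2 a.2.2 h2⟩
  have hinj : Function.Injective f := by
    rintro ⟨⟨E, hE⟩, ⟨x, hx⟩⟩ ⟨⟨E', hE'⟩, ⟨x', hx'⟩⟩ he
    have h1 := mem_subgroupOf.1 (QuotientGroup.eq.1 (congrArg Subtype.val he))
    have e : x = x' := P.coset_unique hD hE.1 hE.2 hx (CfsgLib.Signalizer.involution_sq hx'.2.1)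
      (by simpa using h1)
    subst e
    obtain rfl := P.eq_of_common hE.1 hE'.1 hx.1 hx'.1 (CfsgLib.Signalizer.involution_ne_one hx.2.1)
    rfl
  have hB : Nat.card B = (P.q - 1) * sz S D := by
    haveI := Fintype.ofFinite (↥(N1 S D) ⧸ D.subgroupOf (N1 S D))
    have himg : Nat.card ↥(((↑) : ↥(N1 S D) → ↥(N1 S D) ⧸ D.subgroupOf (N1 S D)) '' {σ | (σ : K) ∈ R S D}) =
        sz S D := by
      refine (Nat.card_congr (Equiv.ofBijective (Quotient.lift (fun r : R S D =>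
        (⟨QuotientGroup.mk ⟨r, P.R_le_N1 r.2⟩, ⟨r, P.R_le_N1 r.2⟩, r.2, rfl⟩ :
          ↥(((↑) : ↥(N1 S D) → ↥(N1 S D) ⧸ D.subgroupOf (N1 S D)) '' {σ | (σ : K) ∈ R S D}))) fun a b h =>
        Subtype.ext (QuotientGroup.eq.2 (mem_subgroupOf.2 (by
          have h' := mem_subgroupOf.1 (QuotientGroup.leftRel_apply.1 h)
          simpa using h')))) ⟨?_, ?_⟩)).symm
      · intro a b h
        obtain ⟨a, rfl⟩ := QuotientGroup.mk_surjective a
        obtain ⟨b, rfl⟩ := QuotientGroup.mk_surjective b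
        have h1 := mem_subgroupOf.1 (QuotientGroup.eq.1 (congrArg Subtype.val h))
        exact QuotientGroup.eq.2 (mem_subgroupOf.2 (by simpa using h1))
      · rintro ⟨_, σ, hσ, rfl⟩
        exact ⟨QuotientGroup.mk ⟨σ, hσ⟩, rfl⟩
    have htot : Nat.card (↥(N1 S D) ⧸ D.subgroupOf (N1 S D)) = P.q * sz S D := by
      rw [← Subgroup.index_eq_card, sz, ← relIndex, ← relIndex_mul_relIndex D (R S D) (N1 S D) (le_R hD)
        P.R_le_N1, P.relIndex_N1 hD, mul_comm]
    rw [Nat.card_eq_fintype_card] at htot himg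
    rw [Nat.card_eq_fintype_card, Fintype.card_subtype_compl, htot, himg, Nat.sub_one_mul]
  have hcen : ∀ E : {E : Subgroup K // IsLine S E ∧ R S E ≠ R S D}, Nonempty {x : K // IsCentral E.1 x} :=
    fun E => ⟨⟨_, (P.exists_central E.2.1).choose_spec⟩⟩
  have hge : Nat.card B ≤ Nat.card A := by
    rw [hB, ← P.card_others hD]
    exact Nat.card_le_card_of_injective (fun E => (⟨E, (hcen E).some⟩ : A)) fun a b h => congrArg Sigma.fst h
  have hbij : Function.Bijective f := hinj.bijective_of_nat_card_le hge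
  have huniq : ∀ E, IsLine S E → R S E ≠ R S D → ∀ a b, IsCentral E a → IsCentral E b → a = b := by
    intro E hE hne a b ha hb
    let g : {E : Subgroup K // IsLine S E ∧ R S E ≠ R S D} → A := fun E => ⟨E, (hcen E).some⟩
    have hg : Function.Injective g := fun a b h => congrArg Sigma.fst h
    have hgb : Function.Bijective g := hg.bijective_of_nat_card_le (by
      rw [P.card_others hD, ← hB, Nat.card_congr (Equiv.ofBijective f hbij)])
    obtain ⟨E₁, h₁⟩ := hgb.2 (⟨⟨E, hE, hne⟩, ⟨a, ha⟩⟩ : A)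
    obtain ⟨E₂, h₂⟩ := hgb.2 (⟨⟨E, hE, hne⟩, ⟨b, hb⟩⟩ : A)
    obtain rfl : E₁ = E₂ := (congrArg Sigma.fst h₁).trans (congrArg Sigma.fst h₂).symm
    have h := h₁.symm.trans h₂
    simp only [A, Sigma.mk.injEq, heq_eq_eq, true_and, Subtype.mk.injEq] at h
    exact h
  refine ⟨fun E hE hne => ?_, fun σ hσ hσR => ?_⟩
  · obtain ⟨x, hx⟩ := P.exists_central hE
    have hx1 := CfsgLib.Signalizer.involution_ne_one hx.2.1
    refine ⟨x, hx.1, CfsgLib.Signalizer.involution_sq hx.2.1, hx1, ?_⟩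
    have hinv : ∀ e ∈ E, e * e = 1 → e = 1 ∨ e = x := fun e he he2 => or_iff_not_imp_left.2 fun he1 =>
      (huniq E hE hne x e hx ⟨he, CfsgLib.Signalizer.orderOf_eq_two_of he1 he2,
        fun d hd => P.commute_line hE d hd e he⟩).symm
    intro e he
    refine hinv e he (by_contra fun he2 => ?_)
    have h1 : e * e ∈ R S D := P.sq_mem_R hD (hN E hE hne he)
    obtain ⟨k, hk⟩ := S.isPGroup' ⟨e * e, mul_mem (line_le hE he) (line_le hE he)⟩
    have hk' : (e * e) ^ 2 ^ k = 1 := congrArg Subtype.val hk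
    have key : ∀ (k : ℕ) (y : K), y ∈ E → y ∈ R S D → y ≠ 1 → y ^ 2 ^ k = 1 → False := by
      intro k
      induction k with
      | zero => intro y _ _ h1 h2; exact h1 (by simpa using h2)
      | succ k ih =>
        intro y hy hyR hy1 hy2
        by_cases h3 : y * y = 1
        · obtain h | h := hinv y hy h3
          · exact hy1 h
          · exact P.not_mem_R hD hE hne hx (h ▸ hyR)
        · exact ih _ (mul_mem hy hy) (mul_mem hyR hyR) h3 (by rw [← pow_two, ← pow_mul, ← pow_succ', hy2])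
    exact key k _ (mul_mem he he) h1 he2 hk'
  · obtain ⟨⟨⟨E, hE, hne⟩, ⟨x, hx⟩⟩, ha⟩ := hbij.2 ⟨QuotientGroup.mk ⟨σ, hσ⟩, by
      rintro ⟨τ, hτ, he⟩
      have h1 := mem_subgroupOf.1 (QuotientGroup.eq.1 he)
      have h2 := mul_mem (show (τ : K) ∈ R S D from hτ) (le_R hD h1)
      simp only [Subgroup.coe_mul, InvMemClass.coe_inv, mul_inv_cancel_left] at h2
      exact hσR h2⟩
    have h1 := mem_subgroupOf.1 (QuotientGroup.eq.1 (congrArg Subtype.val ha).symm)
    exact ⟨E, hE, hne, x, hx, by simpa using h1⟩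

/-- A torus of a line: transitive on `Z S`, and moving all other pencils unless it centralises `Z S`. -/
theorem exists_torus (hD : IsLine S D) :
    ∃ g : K, g • S = S ∧ (∀ d ∈ D, g * d = d * g) ∧ (∀ n : ℕ, cj (g ^ n) (R S D) = R S D) ∧
      (∀ z ∈ P.Z S, ∀ z' ∈ P.Z S, z ≠ 1 → z' ≠ 1 → ∃ i : ℕ, g ^ i * z * (g ^ i)⁻¹ = z') ∧
      (∀ E, IsLine S E → R S E ≠ R S D → ∀ i : ℕ, cj (g ^ i) (R S E) = R S E →
        ∀ z ∈ P.Z S, g ^ i * z = z * g ^ i) := by
  obtain ⟨-, T, hTS, hDT⟩ := id hD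
  have hT : D ≤ (T : Subgroup K) := hDT.le.trans inf_le_right
  obtain ⟨g, hg, hgS, hgT, hgD, htr, hfix, hthird⟩ := (P.lineFacts hD hT hTS).torus
  refine ⟨g, hgS, hgD, fun n => ?_, htr,
    fun E hE hne i hi => P.centralizes_of_fix hD hT hTS hg hgS hgT hgD hfix hthird hE hne hi⟩
  rw [← R_cj D (P.smul_pow_eq hgS n), cj_eq_self (P.cent_normalizes hD (P.line_commute_torus hgD n))]

theorem exists_two_Z (S : Sylow 2 K) : ∃ z ∈ P.Z S, ∃ z' ∈ P.Z S, z ≠ 1 ∧ z' ≠ 1 ∧ z ≠ z' := by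
  classical
  obtain ⟨z, hz, hz1⟩ := P.exists_Z_ne_one S
  by_contra hno
  push Not at hno
  have h : Nat.card (P.Z S) ≤ Nat.card Bool := Nat.card_le_card_of_surjective
    (fun b : Bool => if b then (1 : P.Z S) else ⟨z, hz⟩) fun y => by
      by_cases hy : (y : K) = 1
      · exact ⟨true, Subtype.ext hy.symm⟩
      · exact ⟨false, Subtype.ext (hno z hz y y.2 hz1 hy)⟩
  rw [P.card_Z, Nat.card_eq_fintype_card (α := Bool), Fintype.card_bool] at h
  have := P.two_lt_q
  omega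

/-- A pencil stabilised by `S`, if lines are long. -/
theorem exists_stable (hD : IsLine S D) (hs : sz S D ≠ P.q) :
    ∃ E, IsLine S E ∧ (S : Subgroup K) ≤ normalizer (R S E : Set K) := by
  classical
  haveI := Fact.mk Nat.prime_two
  let X := {H : Subgroup K // ∃ E, IsLine S E ∧ R S E = H}
  letI : MulAction (S : Subgroup K) X :=
    { smul := fun σ H => ⟨cj (σ : K) H.1, by
        obtain ⟨E, hE, he⟩ := H.2
        have hS : (σ : K) • S = S := smul_sylow_of_mem σ.2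
        refine ⟨cj (σ : K) E, ?_, by rw [R_cj E hS, he]⟩
        have := hE.cj (σ : K)
        rwa [hS] at this⟩
      one_smul := fun H => Subtype.ext (cj_one H.1)
      mul_smul := fun a b H => Subtype.ext (cj_mul (a : K) (b : K) H.1) }
  have hcard : Nat.card (Lines S) = Nat.card X * P.q := by
    haveI := Fintype.ofFinite X
    rw [← Nat.card_congr (Equiv.sigmaFiberEquiv (fun E : Lines S => (⟨R S E.1, E.1, E.2, rfl⟩ : X))),
      Nat.card_sigma, Nat.card_eq_fintype_card (α := X), ← Finset.card_univ, ← smul_eq_mul,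
      ← Finset.sum_const]
    refine Finset.sum_congr rfl fun H _ => ?_
    obtain ⟨E, hE, he⟩ := H.2
    rw [← P.card_pencil hE]
    exact Nat.card_congr ((Equiv.subtypeEquivRight fun F => by
      simp only [Subtype.ext_iff]; rw [← he]).trans (Equiv.subtypeSubtypeEquivSubtypeInter _ _))
  obtain ⟨n, hn, hq⟩ := P.q_pow
  obtain ⟨k, hk⟩ := P.sz_pow hD
  have hnk : n < k := by
    have h1 := P.q_dvd_sz hD
    rw [hq, hk, Nat.pow_dvd_pow_iff_le_right (by norm_num)] at h1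
    rcases h1.lt_or_eq with h | rfl
    · exact h
    · exact absurd (hk.trans hq.symm) hs
  obtain ⟨j, rfl⟩ : ∃ j, k = n + (j + 1) := ⟨k - n - 1, by omega⟩
  have hX : ¬ 2 ∣ Nat.card X := by
    rw [P.card_Lines hD, hk, Nat.mul_add, mul_one] at hcard
    have h2 := P.two_lt_q
    have e : P.q * (1 + (P.q - 1) * (2 * 2 ^ j)) = Nat.card X * P.q := by
      rw [← hcard, pow_add, ← hq, pow_succ', Nat.mul_add, mul_one]
      have e2 : P.q * ((P.q - 1) * (2 * 2 ^ j)) = (P.q - 1) * (P.q * (2 * 2 ^ j)) := by ring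
      omega
    rw [mul_comm (Nat.card X)] at e
    rw [← Nat.eq_of_mul_eq_mul_left (by omega) e, mul_left_comm]
    omega
  obtain ⟨⟨H, E, hE, he⟩, hfix⟩ := S.isPGroup'.nonempty_fixed_point_of_prime_not_dvd_card X hX
  exact ⟨E, hE, fun σ hσ => Bender.mem_normalizer_of_map_conj_eq
    (he ▸ congrArg Subtype.val (hfix ⟨σ, hσ⟩))⟩

/-- A line has `q + 1` points. -/
theorem sz_eq (hD₀ : IsLine S D) : sz S D = P.q := by
  by_contra hs
  obtain ⟨D₁, hD, hSD⟩ := P.exists_stable hD₀ hs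
  rw [← P.sz_const hD₀ hD] at hs
  have hN : ∀ {E : Subgroup K}, (S : Subgroup K) ≤ normalizer (R S E : Set K) → N1 S E = (S : Subgroup K) :=
    fun h => inf_eq_left.2 h
  have hle : ∀ {E : Subgroup K}, (S : Subgroup K) ≤ normalizer (R S E : Set K) →
      ∀ F, IsLine S F → R S F ≠ R S E → F ≤ N1 S E := fun h F hF _ => (hN h).symm ▸ line_le hF
  -- a second one
  obtain ⟨D₂, hD₂, hSD₂, hne⟩ : ∃ E, IsLine S E ∧ (S : Subgroup K) ≤ normalizer (R S E : Set K) ∧
      R S E ≠ R S D₁ := by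
    obtain ⟨E, hE, hne⟩ := P.exists_other hD
    obtain ⟨g, hgS, -, -, htr, hfix⟩ := P.exists_torus hE
    have hgD : cj g (R S D₁) ≠ R S D₁ := by
      intro h
      obtain ⟨z, hz, z', hz', hz1, hz'1, hzz⟩ := P.exists_two_Z S
      obtain ⟨i, hi⟩ := htr z hz z' hz' hz1 hz'1
      have hc : g * z = z * g := by
        have := hfix D₁ hD hne.symm 1 (by rwa [pow_one]) z hz
        rwa [pow_one] at this
      exact hzz (by rw [← hi, ((show Commute g z from hc).pow_left i).eq, mul_inv_cancel_right])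
    refine ⟨cj g D₁, hgS ▸ hD.cj g, ?_, by rwa [R_cj D₁ hgS]⟩
    refine inf_eq_left.1 ?_
    show N1 S (cj g D₁) = (S : Subgroup K)
    rw [N1_cj hgS, hN hSD, ← coe_smul_eq_cj, hgS]
  obtain ⟨w, hwD⟩ := (P.others hD₂ (hle hSD₂)).1 D₁ hD hne.symm
  have hw := hwD.isCentral
  obtain ⟨-, hcos⟩ := P.others hD (hle hSD)
  have hcent : ∀ d ∈ D₁, ∀ r ∈ R S D₁, r * d = d * r := fun d hd r hr =>
    P.isLine_cent hD hd (fun e he => P.commute_line hD e he d hd) hr
  -- every commutator lies in the translation part of each companion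
  have key : ∀ σ ∈ N1 S D₁, σ ∉ R S D₁ → ∀ a ∈ R S D₁, ∀ b ∈ R S D₁,
      b * a * b⁻¹ * a⁻¹ = 1 ∨ b * a * b⁻¹ * a⁻¹ = σ * w * σ⁻¹ * w := by
    intro σ hσ hσR
    obtain ⟨E, hE, hEne, x, hx, hxD⟩ := hcos σ hσ hσR
    have hxx := CfsgLib.Signalizer.involution_sq hx.2.1
    have hxi := CfsgLib.Signalizer.involution_inv hx.2.1
    have hxR := P.not_mem_R hD hE hEne hx
    have hxN : x ∈ N1 S D₁ := hle hSD E hE hEne hx.1
    have hxw : x * w * x = σ * w * σ⁻¹ := by
      rcases hwD.2.2.2 _ hxD with h | h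
      · rw [inv_mul_eq_one.1 h, hxi]
      · have hxe : x = σ * w := by rw [← h, mul_inv_cancel_left]
        calc x * w * x = σ * w * w * x⁻¹ := by rw [hxi, hxe]
          _ = σ * (w * w) * (w⁻¹ * σ⁻¹) := by rw [hxe]; group
          _ = σ * (w * w) * w⁻¹ * σ⁻¹ := by group
          _ = σ * w * σ⁻¹ := by rw [mul_assoc σ (w * w), mul_inv_cancel_right]
    -- every coset of `D₁` in `R` has an element inverted by `x`
    have hrep : ∀ r ∈ R S D₁, ∃ d ∈ D₁, x * (r * d) * x = (r * d)⁻¹ := by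
      intro r hr
      have hxr : x * r ∉ R S D₁ := fun h => hxR (by simpa using mul_mem h (inv_mem hr))
      obtain ⟨E', -, -, x', hx', hx'D⟩ := hcos (x * r) (mul_mem hxN (P.R_le_N1 hr)) hxr
      refine ⟨_, hx'D, eq_inv_of_mul_eq_one_left ?_⟩
      have h2 : x' * x' = 1 := CfsgLib.Signalizer.involution_sq hx'.2.1
      have e : x * (r * ((x * r)⁻¹ * x')) = x' := by group
      rw [mul_assoc (x * _), e, h2]
    intro a₀ ha₀ b₀ hb₀
    obtain ⟨da, hda, hia⟩ := hrep a₀ ha₀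
    obtain ⟨db, hdb, hib⟩ := hrep b₀ hb₀
    have e0 : b₀ * db * (a₀ * da) * (b₀ * db)⁻¹ * (a₀ * da)⁻¹ = b₀ * a₀ * b₀⁻¹ * a₀⁻¹ := by
      have c1 : db * (a₀ * da) = a₀ * da * db :=
        (hcent db hdb (a₀ * da) (mul_mem ha₀ (le_R hD hda))).symm
      have c2 : da * b₀⁻¹ = b₀⁻¹ * da := (hcent da hda _ (inv_mem hb₀)).symm
      calc b₀ * db * (a₀ * da) * (b₀ * db)⁻¹ * (a₀ * da)⁻¹
          = b₀ * (db * (a₀ * da)) * db⁻¹ * b₀⁻¹ * da⁻¹ * a₀⁻¹ := by group
        _ = b₀ * (a₀ * da * db) * db⁻¹ * b₀⁻¹ * da⁻¹ * a₀⁻¹ := by rw [c1]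
        _ = b₀ * a₀ * (da * b₀⁻¹) * da⁻¹ * a₀⁻¹ := by group
        _ = b₀ * a₀ * (b₀⁻¹ * da) * da⁻¹ * a₀⁻¹ := by rw [c2]
        _ = _ := by group
    rw [← e0]
    set a := a₀ * da with ha
    set b := b₀ * db with hb
    have haR : a ∈ R S D₁ := mul_mem ha₀ (le_R hD hda)
    have hbR : b ∈ R S D₁ := mul_mem hb₀ (le_R hD hdb)
    obtain ⟨d, hd, hi⟩ := hrep (a * b) (mul_mem haR hbR)
    have e1 : x * (a * b * d) * x = a⁻¹ * b⁻¹ * (x * d * x) := by
      rw [← hia, ← hib]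
      simp only [mul_assoc]
      rw [← mul_assoc x x, hxx, one_mul, ← mul_assoc x x, hxx, one_mul]
    rw [e1, mul_inv_rev (a * b) d, mul_inv_rev a b] at hi
    have c3 : d⁻¹ * (b⁻¹ * a⁻¹) = b⁻¹ * a⁻¹ * d⁻¹ :=
      (hcent _ (inv_mem hd) _ (mul_mem (inv_mem hbR) (inv_mem haR))).symm
    rw [c3] at hi
    have e2 : x * d * x = b * a * b⁻¹ * a⁻¹ * d⁻¹ := by
      calc x * d * x = b * a * (a⁻¹ * b⁻¹ * (x * d * x)) := by group
        _ = b * a * (b⁻¹ * a⁻¹ * d⁻¹) := by rw [hi]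
        _ = _ := by group
    have e3 : b * a * b⁻¹ * a⁻¹ = x * d * x * d := by rw [e2, inv_mul_cancel_right]
    rw [e3]
    rcases hwD.2.2.2 d hd with rfl | rfl
    · left; rw [mul_one, mul_one, hxx]
    · right; rw [hxw]
  -- two companions
  obtain ⟨z, hz, z', hz', hz1, hz'1, hzz⟩ := P.exists_two_Z S
  have hshift : ∀ j ∈ P.Z S, j ≠ 1 → ∃ σ ∈ N1 S D₁, σ ∉ R S D₁ ∧ σ * w * σ⁻¹ * w = j := by
    intro j hj hj1
    obtain ⟨E, hE, hjw⟩ := P.exists_comp hD hw hj hj1
    obtain ⟨σ, hσ, he⟩ := P.exists_translation hD hE.1 (P.comp_central hD hw hE hj hjw).2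
    refine ⟨σ, hσ, fun h => hE.2.1 (by rw [← he, (P.smul_D_eq_iff hD hσ.1).2 h]), ?_⟩
    rw [← he, mem_cj] at hjw
    have h := hwD.2.2.2 _ hjw
    rcases h with h | h
    · exact absurd (conj_eq_one_iff.1 (by simpa using h : σ⁻¹ * (j * w) * σ⁻¹⁻¹ = 1))
        (P.mul_ne_one hD hw hj)
    · have e : σ * w * σ⁻¹ = j * w := by
        calc σ * w * σ⁻¹ = σ * (σ⁻¹ * (j * w) * σ) * σ⁻¹ := by rw [h]
          _ = _ := by group
      rw [e, mul_assoc, hwD.2.1, mul_one]
  obtain ⟨σ, hσ, hσR, eσ⟩ := hshift z hz hz1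
  obtain ⟨τ, hτ, hτR, eτ⟩ := hshift z' hz' hz'1
  refine hs ?_
  obtain ⟨-, T, hTS, hDT⟩ := id hD
  have hbig := (P.lineFacts hD (hDT.le.trans inf_le_right) hTS).big fun b hb a ha => by
    rcases key σ hσ hσR a ha b hb with h | h
    · rw [h]; exact one_mem _
    rcases key τ hτ hτR a ha b hb with h' | h'
    · rw [h']; exact one_mem _
    exact absurd (by rw [← eσ, ← eτ, ← h, ← h']) hzz
  rw [P.card_R hD] at hbig
  exact Nat.eq_of_mul_eq_mul_left Nat.card_pos hbig

end Pencils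

end CfsgLib.RankOneInter
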